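import Mathlib

/-!
Gluing modules along an étale map `R → S` inducing an isomorphism modulo `I = (a i)` and the
localisations at the `a i`.
-/

set_option autoImplicit false
set_option linter.all false
set_option backward.isDefEq.respectTransparency.types false

universe u

namespace Groth.Agent.EtaleGlueLib

open TensorProduct

variable {R S : Type u} [CommRing R] [CommRing S] [Algebra R S] {ι : Type} {a : ι → R}

/-- A torsion element vanishing after tensoring with `S` is zero. -/
theorem detect [Module.Flat R S] [Fintype ι]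
    (hsurj : ∀ s : S, ∃ r, s - algebraMap R S r ∈ (Ideal.span (Set.range a)).map (algebraMap R S))
    (hinj : ∀ r : R, algebraMap R S r ∈ (Ideal.span (Set.range a)).map (algebraMap R S) → r ∈ Ideal.span (Set.range a))
    {T : Type u} [AddCommGroup T] [Module R T] (x : T) (hx : ∀ i, ∃ p : ℕ, a i ^ p • x = 0)
    (h1 : (1 : S) ⊗ₜ[R] x = 0) : x = 0 := by
  classical
  choose p hp using hx
  suffices H : ∀ (n : ℕ) (p : ι → ℕ) (y : T), ∑ i, p i ≤ n → (∀ i, a i ^ p i • y = 0) →
      (1 : S) ⊗ₜ[R] y = 0 → y = 0 from H _ p x le_rfl hp h1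
  clear hp h1 x p
  intro n
  induction n with
  | zero =>
    intro p y hn hp h1
    by_cases hι : IsEmpty ι
    · have hI : Ideal.span (Set.range a) = (⊥ : Ideal R) := by simp [Set.range_eq_empty a]
      have hbij : Function.Bijective (algebraMap R S) := by
        rw [hI, Ideal.map_bot] at hsurj hinj
        refine ⟨(injective_iff_map_eq_zero _).2 fun r hr => hinj r (by simp [hr]), fun s => ?_⟩
        obtain ⟨r, hr⟩ := hsurj s
        exact ⟨r, (sub_eq_zero.1 ((Submodule.mem_bot _).1 hr)).symm⟩
      let e : R ≃ₗ[R] S := LinearEquiv.ofBijective (Algebra.linearMap R S) hbij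
      have := congrArg (fun z => TensorProduct.lid R T (e.symm.toLinearMap.rTensor T z)) h1
      simp only [LinearMap.rTensor_tmul, map_zero, TensorProduct.lid_tmul] at this
      rwa [show e.symm.toLinearMap 1 = 1 from e.injective (by simp [e]), one_smul] at this
    · obtain ⟨i⟩ := not_isEmpty_iff.1 hι
      have h0 : p i = 0 := Nat.le_zero.1 ((Finset.single_le_sum (fun j _ => Nat.zero_le (p j))
        (Finset.mem_univ i)).trans hn)
      simpa [h0] using hp i
  | succ n ih =>
    intro p y hn hp h1
    have hy : ∀ i, a i • y = 0 := by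
      intro i
      by_cases h0 : p i = 0
      · have := hp i
        rw [h0, pow_zero, one_smul] at this
        rw [this, smul_zero]
      · refine ih (Function.update p i (p i - 1)) _ ?_ (fun j => ?_) ?_
        · have h2 := Finset.sum_update_of_mem (Finset.mem_univ i) p (p i - 1)
          have h3 := Finset.add_sum_erase Finset.univ p (Finset.mem_univ i)
          rw [← Finset.sdiff_singleton_eq_erase] at h3
          omega
        · by_cases hji : j = i
          · subst hji
            rw [Function.update_self, smul_smul, ← pow_succ, Nat.sub_add_cancel (Nat.pos_of_ne_zero h0)]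
            exact hp j
          · rw [Function.update_of_ne hji, smul_comm, hp j, smul_zero]
        · rw [tmul_smul, h1, smul_zero]
    have hI : Ideal.span (Set.range a) ≤ (Submodule.span R {y}).annihilator := by
      rw [Ideal.span_le]
      rintro _ ⟨i, rfl⟩
      exact Submodule.mem_annihilator_span_singleton _ _ |>.2 (hy i)
    choose ρ hρ using hsurj
    have key : ∀ r r' : R, algebraMap R S r - algebraMap R S r' ∈ (Ideal.span (Set.range a)).map (algebraMap R S) →
        r • (⟨y, Submodule.mem_span_singleton_self y⟩ : Submodule.span R {y}) = r' • ⟨y, Submodule.mem_span_singleton_self y⟩ := by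
      intro r r' h
      rw [← map_sub] at h
      have h' := (Submodule.mem_annihilator_span_singleton _ _).1 (hI (hinj _ h))
      refine Subtype.ext ?_
      show r • y = r' • y
      rwa [sub_smul, sub_eq_zero] at h'
    let T' := Submodule.span R {y}
    let y' : T' := ⟨y, Submodule.mem_span_singleton_self y⟩
    have hy' : ∀ t : T', ∃ r : R, t = r • y' := fun t => by
      obtain ⟨r, hr⟩ := Submodule.mem_span_singleton.1 t.2
      exact ⟨r, Subtype.ext hr.symm⟩
    have htor : ∀ r ∈ Ideal.span (Set.range a), ∀ t : T', r • t = 0 := fun r hr t =>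
      Subtype.ext (Submodule.mem_annihilator.1 (hI hr) _ t.2)
    let m : S →ₗ[R] T' →ₗ[R] T' := LinearMap.mk₂ R (fun s t => ρ s • t)
      (fun s s' t => by
        obtain ⟨c, rfl⟩ := hy' t
        rw [smul_smul, smul_smul, smul_smul, ← add_smul]
        refine key _ _ ?_
        have h3 := Ideal.mul_mem_right (algebraMap R S c) _ (sub_mem (add_mem (hρ s) (hρ s')) (hρ (s + s')))
        convert h3 using 1
        simp only [map_add, map_mul]
        ring)
      (fun c s t => by
        obtain ⟨e, rfl⟩ := hy' t
        rw [smul_smul, smul_smul, smul_smul]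
        refine key _ _ ?_
        have h3 := Ideal.mul_mem_right (algebraMap R S e) _
          (sub_mem (Ideal.mul_mem_left _ (algebraMap R S c) (hρ s)) (hρ (c • s)))
        convert h3 using 1
        simp only [map_mul, Algebra.smul_def]
        ring)
      (fun s t t' => smul_add _ _ _) (fun c s t => smul_comm _ _ _)
    have h2 : (1 : S) ⊗ₜ[R] y' = 0 := by
      apply Module.Flat.lTensor_preserves_injective_linearMap (M := S) T'.subtype Subtype.val_injective
      rw [LinearMap.lTensor_tmul, map_zero]
      exact h1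
    have h4 := congrArg (TensorProduct.lift m) h2
    rw [map_zero, TensorProduct.lift.tmul] at h4
    have h5 : ρ 1 • y' = (1 : R) • y' := key _ _ (by
      have := hρ 1
      rw [← neg_mem_iff, neg_sub] at this
      rwa [map_one])
    rw [one_smul] at h5
    exact congrArg Subtype.val (h5.symm.trans h4)

section Act

variable (R S)
variable (M : Type u) [AddCommGroup M] [Module R M] [Module S M] [IsScalarTower R S M]

/-- The action of `S ⊗ S` on `S ⊗ M`. -/
noncomputable def act : S ⊗[R] S →ₐ[R] Module.End R (S ⊗[R] M) :=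
  (Module.endTensorEndAlgHom (R := R) (S := R) (A := R) (M := S) (N := M)).comp
    (Algebra.TensorProduct.map (Algebra.lmul R S) (Algebra.lsmul R R M))

variable {R S M}

@[simp] theorem act_tmul (s t c : S) (m : M) :
    act R S M (s ⊗ₜ t) (c ⊗ₜ m) = (s * c) ⊗ₜ (t • m) := rfl

theorem act_natural {M' : Type u} [AddCommGroup M'] [Module R M'] [Module S M'] [IsScalarTower R S M']
    (f : M →ₗ[S] M') (t : S ⊗[R] S) (x : S ⊗[R] M) :
    (f.restrictScalars R).lTensor S (act R S M t x) = act R S M' t ((f.restrictScalars R).lTensor S x) := by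
  induction t using TensorProduct.induction_on with
  | zero => simp
  | add a b ha hb => simp [ha, hb]
  | tmul s s' =>
    induction x using TensorProduct.induction_on with
    | zero => simp
    | add a b ha hb => simp [ha, hb]
    | tmul c m => simp

/-- The multiplication `S ⊗ M → M`. -/
noncomputable def mu : S ⊗[R] M →ₗ[R] M := ((LinearMap.id : M →ₗ[R] M).liftBaseChange S).restrictScalars R

@[simp] theorem mu_tmul (s : S) (m : M) : mu (R := R) (s ⊗ₜ[R] m) = s • m := by
  simp [mu]

theorem mu_natural {M' : Type u} [AddCommGroup M'] [Module R M'] [Module S M'] [IsScalarTower R S M']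
    (f : M →ₗ[S] M') (x : S ⊗[R] M) :
    mu (R := R) ((f.restrictScalars R).lTensor S x) = f (mu (R := R) x) := by
  induction x using TensorProduct.induction_on with
  | zero => simp
  | add a b ha hb => simp [ha, hb]
  | tmul c m => simp

theorem act_elem_eq_zero [Algebra.FormallyUnramified R S] [Algebra.EssFiniteType R S]
    (x : S ⊗[R] M) (hx : mu (R := R) x = 0) :
    act R S M (Algebra.FormallyUnramified.elem R S) x = 0 := by
  set t := Algebra.FormallyUnramified.elem R S
  have h : ∀ y : S ⊗[R] M, act R S M t y = act R S M t ((1 : S) ⊗ₜ mu (R := R) y) := by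
    intro y
    induction y using TensorProduct.induction_on with
    | zero => simp
    | add a b ha hb => simp only [map_add, tmul_add, ha, hb]
    | tmul c m =>
      have h1 : (c : S) ⊗ₜ[R] m = act R S M (c ⊗ₜ 1) ((1 : S) ⊗ₜ m) := by simp
      have h2 : (1 : S) ⊗ₜ[R] (c • m) = act R S M (1 ⊗ₜ c) ((1 : S) ⊗ₜ m) := by simp
      rw [mu_tmul, h1, h2, ← Module.End.mul_apply, ← Module.End.mul_apply, ← map_mul, ← map_mul,
        mul_comm t, mul_comm t, Algebra.FormallyUnramified.one_tmul_mul_elem]
  rw [h, hx, tmul_zero, map_zero]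

/-- `ker μ` is killed by `1 - ε` for some `ε` in the ideal generated by the `a i`. -/
theorem exists_eps [Algebra.FormallyUnramified R S] [Algebra.EssFiniteType R S]
    (hsurj : ∀ s : S, ∃ r, s - algebraMap R S r ∈ (Ideal.span (Set.range a)).map (algebraMap R S)) :
    ∃ ε ∈ (Ideal.span (Set.range a)).map (algebraMap R (S ⊗[R] S)),
      Algebra.TensorProduct.lmul' R ε = (0 : S) ∧ ε = 1 - Algebra.FormallyUnramified.elem R S := by
  refine ⟨_, ?_, ?_, rfl⟩
  · have h0 : (1 - Algebra.FormallyUnramified.elem R S) ∈ KaehlerDifferential.ideal R S := by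
      rw [RingHom.mem_ker]
      simp [Algebra.FormallyUnramified.lmul_elem]
    rw [← KaehlerDifferential.span_range_eq_ideal] at h0
    refine Ideal.span_le.2 ?_ h0
    rintro _ ⟨s, rfl⟩
    obtain ⟨r, hr⟩ := hsurj s
    have e : (1 : S) ⊗ₜ[R] s - s ⊗ₜ 1 =
        Algebra.TensorProduct.includeRight (s - algebraMap R S r) -
          (Algebra.TensorProduct.includeLeft : S →ₐ[R] S ⊗[R] S) (s - algebraMap R S r) := by
      simp only [map_sub, AlgHom.commutes]
      rw [Algebra.TensorProduct.includeRight_apply, Algebra.TensorProduct.includeLeft_apply]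
      ring
    simp only [SetLike.mem_coe, e]
    refine sub_mem ?_ ?_
    · have := Ideal.mem_map_of_mem (Algebra.TensorProduct.includeRight : S →ₐ[R] S ⊗[R] S) hr
      rwa [← AlgHom.coe_toRingHom, ← Ideal.map_coe, Ideal.map_map, AlgHom.comp_algebraMap] at this
    · have := Ideal.mem_map_of_mem (Algebra.TensorProduct.includeLeft : S →ₐ[R] S ⊗[R] S) hr
      rwa [← AlgHom.coe_toRingHom, ← Ideal.map_coe, Ideal.map_map, AlgHom.comp_algebraMap] at this
  · simp [Algebra.FormallyUnramified.lmul_elem]

end Act

section Setup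

variable [Fintype ι] [Algebra.FormallyUnramified R S] [Algebra.EssFiniteType R S]
variable {M : Type u} [AddCommGroup M] [Module R M] [Module S M] [IsScalarTower R S M]
  {M1 : ι → Type u} [∀ i, AddCommGroup (M1 i)] [∀ i, Module R (M1 i)] [∀ i, Module S (M1 i)]
  [∀ i, IsScalarTower R S (M1 i)]
  {M2 : ι → ι → Type u} [∀ i j, AddCommGroup (M2 i j)] [∀ i j, Module R (M2 i j)]
  [∀ i j, Module S (M2 i j)] [∀ i j, IsScalarTower R S (M2 i j)]
  (l : ∀ i, M →ₗ[S] M1 i) (r1 : ∀ i j, M1 i →ₗ[S] M2 i j) (r2 : ∀ i j, M1 j →ₗ[S] M2 i j)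

theorem exists_lTensor_eq {X Y : Type u} [AddCommGroup X] [AddCommGroup Y] [Module R X] [Module R Y]
    (P : Submonoid R) (f : X →ₗ[R] Y) [IsLocalizedModule P f] (y : S ⊗[R] Y) :
    ∃ (c : P) (x : S ⊗[R] X), f.lTensor S x = (c : R) • y := by
  induction y using TensorProduct.induction_on with
  | zero => exact ⟨1, 0, by simp⟩
  | tmul s y =>
    obtain ⟨⟨x, c⟩, hx⟩ := IsLocalizedModule.surj P f y
    exact ⟨c, s ⊗ₜ x, by rw [LinearMap.lTensor_tmul, ← hx, ← tmul_smul]; rfl⟩
  | add y y' hy hy' =>
    obtain ⟨c, x, hx⟩ := hy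
    obtain ⟨c', x', hx'⟩ := hy'
    refine ⟨c * c', (c' : R) • x + (c : R) • x', ?_⟩
    rw [map_add, map_smul, map_smul, hx, hx', smul_smul, smul_smul, Submonoid.coe_mul, smul_add,
      mul_comm (c' : R)]

theorem exists_smul_eq_zero {X Y : Type u} [AddCommGroup X] [AddCommGroup Y] [Module R X] [Module R Y]
    (P : Submonoid R) (f : X →ₗ[R] Y) [IsLocalizedModule P f] (x : S ⊗[R] X)
    (hx : f.lTensor S x = 0) : ∃ c ∈ P, c • x = 0 := by
  haveI h := IsLocalizedModule.rTensor (R := R) (A := R) (N := S) P f
  have h1 : AlgebraTensorModule.rTensor R S f ((TensorProduct.comm R S X) x) = 0 := by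
    have : ∀ z : S ⊗[R] X, AlgebraTensorModule.rTensor R S f ((TensorProduct.comm R S X) z) =
        TensorProduct.comm R S Y (f.lTensor S z) := fun z => by
      induction z using TensorProduct.induction_on with
      | zero => simp
      | add a b ha hb => simp only [map_add] at *; rw [ha, hb]
      | tmul s t => simp
    rw [this, hx, map_zero]
  obtain ⟨c, hc⟩ := (IsLocalizedModule.eq_zero_iff P (AlgebraTensorModule.rTensor R S f)).1 h1
  refine ⟨c, c.2, (TensorProduct.comm R S X).injective ?_⟩
  rw [map_zero, map_smul]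
  exact hc

variable
  (hl : ∀ i, IsLocalizedModule (Submonoid.powers (a i)) ((l i).restrictScalars R))
  (hr1 : ∀ i j, IsLocalizedModule (Submonoid.powers (a j)) ((r1 i j).restrictScalars R))
  (hr2 : ∀ i j, IsLocalizedModule (Submonoid.powers (a i)) ((r2 i j).restrictScalars R))
  (hcomp : ∀ i j m, r1 i j (l i m) = r2 i j (l j m))

include hl in
theorem smul_cancel (i : ι) (p : ℕ) {x y : M1 i} (h : a i ^ p • x = a i ^ p • y) : x = y := by
  haveI := hl i
  exact IsLocalizedModule.smul_injective (S := Submonoid.powers (a i)) ((l i).restrictScalars R) ⟨a i ^ p, ⟨p, rfl⟩⟩ h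

include hl hr1 hcomp hr2 in
/-- Elements of `ker μ` glue uniquely. -/
theorem glue_ker (hsurj : ∀ s : S, ∃ r, s - algebraMap R S r ∈ (Ideal.span (Set.range a)).map (algebraMap R S))
    (x : ∀ i, S ⊗[R] M1 i) (hx : ∀ i, mu (R := R) (x i) = 0)
    (hc : ∀ i j, ((r1 i j).restrictScalars R).lTensor S (x i) = ((r2 i j).restrictScalars R).lTensor S (x j)) :
    ∃ u : S ⊗[R] M, mu (R := R) u = 0 ∧ ∀ i, ((l i).restrictScalars R).lTensor S u = x i := by
  classical
  have h0 : ∀ i, ∃ (p : ℕ) (u : S ⊗[R] M), ((l i).restrictScalars R).lTensor S u = a i ^ p • x i := fun i => by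
    haveI := hl i
    obtain ⟨⟨_, p, rfl⟩, u, hu⟩ := exists_lTensor_eq (Submonoid.powers (a i)) ((l i).restrictScalars R) (x i)
    exact ⟨p, u, hu⟩
  choose p u hu using h0
  set p₀ := ∑ i, p i
  have hp : ∀ i, p i ≤ p₀ := fun i => Finset.single_le_sum (fun j _ => Nat.zero_le _) (Finset.mem_univ i)
  obtain ⟨v, hv⟩ : ∃ v : ι → S ⊗[R] M,
      ∀ i, ((l i).restrictScalars R).lTensor S (v i) = a i ^ p₀ • x i :=
    ⟨fun i => a i ^ (p₀ - p i) • u i, fun i => by
      simp only [map_smul, hu, smul_smul, ← pow_add, Nat.sub_add_cancel (hp i)]⟩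
  have h1 : ∀ i j, ∃ q : ℕ, (a i * a j) ^ q • (a j ^ p₀ • v i - a i ^ p₀ • v j) = 0 := by
    intro i j
    have h2 : ((r1 i j).restrictScalars R).lTensor S (((l i).restrictScalars R).lTensor S
        (a j ^ p₀ • v i - a i ^ p₀ • v j)) = 0 := by
      have hcomp' : ∀ z, ((r1 i j).restrictScalars R).lTensor S (((l i).restrictScalars R).lTensor S z) =
          ((r2 i j).restrictScalars R).lTensor S (((l j).restrictScalars R).lTensor S z) := fun z => by
        rw [← LinearMap.lTensor_comp_apply, ← LinearMap.lTensor_comp_apply]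
        congr 2
        exact LinearMap.ext (hcomp i j)
      rw [map_sub, map_sub, hcomp' (a i ^ p₀ • v j), map_smul, map_smul, map_smul, map_smul, hv, hv,
        map_smul, map_smul, hc, smul_comm, sub_self]
    haveI := hr1 i j
    obtain ⟨_, hcm, hq⟩ := exists_smul_eq_zero (Submonoid.powers (a j)) ((r1 i j).restrictScalars R) _ h2
    obtain ⟨q, rfl⟩ := (Submonoid.mem_powers_iff _ _).1 hcm
    rw [← map_smul] at hq
    haveI := hl i
    obtain ⟨_, hcm', hq'⟩ := exists_smul_eq_zero (Submonoid.powers (a i)) ((l i).restrictScalars R) _ hq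
    obtain ⟨q', rfl⟩ := (Submonoid.mem_powers_iff _ _).1 hcm'
    refine ⟨q + q', ?_⟩
    rw [smul_smul] at hq'
    have : (a i * a j) ^ (q + q') = a i ^ q * a j ^ q' * (a i ^ q' * a j ^ q) := by ring
    rw [this, mul_smul, hq', smul_zero]
  choose q hq using h1
  set q₀ := ∑ i, ∑ j, q i j
  have hq₀ : ∀ i j, q i j ≤ q₀ := fun i j =>
    (Finset.single_le_sum (fun k _ => Nat.zero_le (q i k)) (Finset.mem_univ j)).trans
      (Finset.single_le_sum (f := fun k => ∑ j, q k j) (fun k _ => Nat.zero_le _) (Finset.mem_univ i))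
  set P := p₀ + q₀
  let w : ι → S ⊗[R] M := fun i => a i ^ q₀ • v i
  have hw : ∀ i, ((l i).restrictScalars R).lTensor S (w i) = a i ^ P • x i := fun i => by
    simp only [w, map_smul, hv, smul_smul, ← pow_add, P, add_comm p₀]
  have hww : ∀ i j, a j ^ P • w i = a i ^ P • w j := fun i j => by
    obtain ⟨d, hd⟩ := Nat.exists_eq_add_of_le (hq₀ i j)
    have h3 : (a i * a j) ^ q₀ • (a j ^ p₀ • v i - a i ^ p₀ • v j) = 0 := by
      rw [hd, add_comm, pow_add, mul_smul, hq, smul_zero]
    rw [smul_sub, sub_eq_zero, smul_smul, smul_smul] at h3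
    simp only [w, smul_smul, P]
    rw [show a j ^ (p₀ + q₀) * a i ^ q₀ = (a i * a j) ^ q₀ * a j ^ p₀ by ring, h3]
    congr 1
    ring
  obtain ⟨ε, hε, hμε, hεdef⟩ := exists_eps (R := R) (S := S) (a := a) hsurj
  have hεP : ∃ n, ε ^ n ∈ (Ideal.span (Set.range fun i => a i ^ P)).map (algebraMap R (S ⊗[R] S)) := by
    have hle : (Ideal.span (Set.range a)).map (algebraMap R (S ⊗[R] S)) ≤
        ((Ideal.span (Set.range fun i => a i ^ P)).map (algebraMap R (S ⊗[R] S))).radical := by
      rw [Ideal.map_le_iff_le_comap, Ideal.span_le]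
      rintro _ ⟨i, rfl⟩
      exact ⟨P, by rw [← map_pow]; exact Ideal.mem_map_of_mem _ (Ideal.subset_span ⟨i, rfl⟩)⟩
    exact hle hε
  obtain ⟨n, hn⟩ := hεP
  rw [Ideal.map_span, ← Set.range_comp] at hn
  obtain ⟨s, hs⟩ := (Ideal.mem_span_range_iff_exists_fun).1 hn
  have hfix : ∀ (M' : Type u) [AddCommGroup M'] [Module R M'] [Module S M'] [IsScalarTower R S M']
      (y : S ⊗[R] M'), mu (R := R) y = 0 → ∀ n, act R S M' (ε ^ n) y = y := by
    intro M' _ _ _ _ y hy n
    induction n with
    | zero => simp
    | succ n ih =>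
      rw [pow_succ, map_mul, Module.End.mul_apply]
      conv_lhs => rw [hεdef]
      rw [map_sub, map_one, LinearMap.sub_apply, Module.End.one_apply, act_elem_eq_zero _ hy, sub_zero]
      rw [← hεdef]
      exact ih
  let u₀ : S ⊗[R] M := ∑ i, act R S M (s i) (w i)
  have hu₀ : ∀ k, ((l k).restrictScalars R).lTensor S u₀ = x k := fun k => by
    haveI := hl k
    have hk : a k ^ P • ((l k).restrictScalars R).lTensor S u₀ = a k ^ P • x k := by
      simp only [u₀, map_sum, Finset.smul_sum, act_natural, ← map_smul]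
      have : ∀ i, act R S (M1 k) (s i) (((l k).restrictScalars R).lTensor S (a k ^ P • w i)) =
          act R S (M1 k) (s i * algebraMap R (S ⊗[R] S) (a i ^ P)) (a k ^ P • x k) := fun i => by
        rw [hww i k, map_smul, hw, map_mul, Module.End.mul_apply, AlgHom.commutes,
          Module.algebraMap_end_apply, smul_comm]
      simp only [this, ← LinearMap.sum_apply, ← map_sum]
      rw [show (∑ i, s i * algebraMap R (S ⊗[R] S) (a i ^ P)) = ε ^ n from hs]
      exact hfix _ _ (by rw [map_smul, hx, smul_zero]) n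
    have hz : ((l k).restrictScalars R).lTensor S u₀ - x k = 0 := by
      obtain ⟨⟨_, p', rfl⟩, z, hz⟩ :=
        exists_lTensor_eq (Submonoid.powers (a k)) ((l k).restrictScalars R) (((l k).restrictScalars R).lTensor S u₀ - x k)
      have h4 : ((l k).restrictScalars R).lTensor S (a k ^ P • z) = 0 := by
        rw [map_smul, hz, smul_comm, smul_sub, hk, sub_self, smul_zero]
      obtain ⟨_, hcm', hq'⟩ := exists_smul_eq_zero (Submonoid.powers (a k)) ((l k).restrictScalars R) _ h4
      obtain ⟨q', rfl⟩ := (Submonoid.mem_powers_iff _ _).1 hcm'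
      have h5 : a k ^ (q' + P + p') • (((l k).restrictScalars R).lTensor S u₀ - x k) = 0 := by
        rw [pow_add, mul_smul, ← hz, ← map_smul, pow_add, mul_smul, hq', map_zero]
      have hunit : IsUnit (algebraMap R (Module.End R (M1 k)) (a k ^ (q' + P + p'))) :=
        IsLocalizedModule.map_units ((l k).restrictScalars R) (⟨_, ⟨_, rfl⟩⟩ : Submonoid.powers (a k))
      obtain ⟨e, he⟩ := hunit
      have h6 : ∀ y : S ⊗[R] M1 k, LinearMap.lTensor S (↑e⁻¹ : Module.End R (M1 k)) (a k ^ (q' + P + p') • y) = y := by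
        intro y
        induction y using TensorProduct.induction_on with
        | zero => simp
        | add b c hb hc => rw [smul_add, map_add, hb, hc]
        | tmul s m =>
          rw [← tmul_smul, LinearMap.lTensor_tmul]
          congr 1
          have : a k ^ (q' + P + p') • m = (↑e : Module.End R (M1 k)) m := by rw [he]; rfl
          rw [this, ← Module.End.mul_apply, Units.inv_mul, Module.End.one_apply]
      rw [← h6 (((l k).restrictScalars R).lTensor S u₀ - x k), h5, map_zero]
    exact sub_eq_zero.1 hz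
  refine ⟨act R S M ε u₀, ?_, fun k => ?_⟩
  · have : ∀ (t : S ⊗[R] S) (y : S ⊗[R] M), mu (R := R) (act R S M t y) =
        Algebra.TensorProduct.lmul' R t • mu (R := R) y := fun t y => by
      induction t using TensorProduct.induction_on with
      | zero => simp
      | add b c hb hc => simp [hb, hc, add_smul]
      | tmul s s' =>
        induction y using TensorProduct.induction_on with
        | zero => simp
        | add b c hb hc => simp [hb, hc]
        | tmul c m => simp [smul_smul, mul_comm, mul_left_comm]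
    rw [this, hμε, zero_smul]
  · rw [act_natural, hu₀]
    simpa using hfix _ _ (hx k) 1

include hl hr1 hr2 hcomp in
/-- An element of `ker μ` with vanishing localisations is zero. -/
theorem ker_ext (hsurj : ∀ s : S, ∃ r, s - algebraMap R S r ∈ (Ideal.span (Set.range a)).map (algebraMap R S))
    (u : S ⊗[R] M) (hu : mu (R := R) u = 0) (h : ∀ i, ((l i).restrictScalars R).lTensor S u = 0) :
    u = 0 := by
  classical
  have h0 : ∀ i, ∃ p : ℕ, a i ^ p • u = 0 := fun i => by
    haveI := hl i
    obtain ⟨_, hcm, hp⟩ := exists_smul_eq_zero (Submonoid.powers (a i)) ((l i).restrictScalars R) _ (h i)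
    obtain ⟨p, rfl⟩ := (Submonoid.mem_powers_iff _ _).1 hcm
    exact ⟨p, hp⟩
  choose p hp using h0
  obtain ⟨ε, hε, -, hεdef⟩ := exists_eps (R := R) (S := S) (a := a) hsurj
  have hle : (Ideal.span (Set.range a)).map (algebraMap R (S ⊗[R] S)) ≤
      ((Ideal.span (Set.range fun i => a i ^ p i)).map (algebraMap R (S ⊗[R] S))).radical := by
    rw [Ideal.map_le_iff_le_comap, Ideal.span_le]
    rintro _ ⟨i, rfl⟩
    exact ⟨p i, by rw [← map_pow]; exact Ideal.mem_map_of_mem _ (Ideal.subset_span ⟨i, rfl⟩)⟩
  obtain ⟨n, hn⟩ := hle hε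
  rw [Ideal.map_span, ← Set.range_comp] at hn
  obtain ⟨s, hs⟩ := (Ideal.mem_span_range_iff_exists_fun).1 hn
  have hfix : ∀ n, act R S M (ε ^ n) u = u := fun n => by
    induction n with
    | zero => simp
    | succ n ih =>
      rw [pow_succ, map_mul, Module.End.mul_apply]
      conv_lhs => rw [hεdef]
      rw [map_sub, map_one, LinearMap.sub_apply, Module.End.one_apply, act_elem_eq_zero _ hu, sub_zero]
      rw [← hεdef]
      exact ih
  rw [← hfix n, ← hs, map_sum, LinearMap.sum_apply]
  refine Finset.sum_eq_zero fun i _ => ?_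
  rw [map_mul, Module.End.mul_apply, Function.comp_apply, AlgHom.commutes, Module.algebraMap_end_apply,
    hp, map_zero]

end Setup

end Groth.Agent.EtaleGlueLib
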