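import Mathlib

/-!
Small lemmas on localisation away from an element of the base ring.
-/

set_option autoImplicit false
set_option linter.all false
set_option backward.isDefEq.respectTransparency.types false

universe u

namespace Groth.Agent.EtaleGlueLib

theorem isLocalizedModule_away {R X Y : Type u} [CommRing R] [CommRing X] [CommRing Y] [Algebra R X]
    [Algebra X Y] [Algebra R Y] [IsScalarTower R X Y] (c : R) [IsLocalization.Away (algebraMap R X c) Y] :
    IsLocalizedModule (Submonoid.powers c) ((Algebra.linearMap X Y).restrictScalars R) where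
  map_units := by
    rintro ⟨_, n, rfl⟩
    rw [Module.End.isUnit_iff]
    have h : IsUnit (algebraMap R Y (c ^ n)) := by
      rw [IsScalarTower.algebraMap_apply R X Y, map_pow, map_pow]
      exact (IsLocalization.Away.algebraMap_isUnit (algebraMap R X c)).pow n
    refine ⟨fun y y' e => ?_, fun y => ⟨↑h.unit⁻¹ * y, ?_⟩⟩
    · simp only [Module.algebraMap_end_apply, Algebra.smul_def] at e
      exact h.mul_left_cancel e
    · simp only [Module.algebraMap_end_apply, Algebra.smul_def]
      rw [← mul_assoc, IsUnit.mul_val_inv, one_mul]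
  surj := fun y => by
    obtain ⟨n, x, hx⟩ := IsLocalization.Away.surj (algebraMap R X c) y
    refine ⟨(x, ⟨c ^ n, n, rfl⟩), ?_⟩
    show c ^ n • y = algebraMap X Y x
    rw [← hx, Algebra.smul_def, IsScalarTower.algebraMap_apply R X Y, map_pow, map_pow, mul_comm]
  exists_of_eq := fun {x x'} e => by
    obtain ⟨n, hn⟩ := IsLocalization.Away.exists_of_eq (algebraMap R X c) (e : algebraMap X Y x = algebraMap X Y x')
    refine ⟨⟨c ^ n, n, rfl⟩, ?_⟩
    show c ^ n • x = c ^ n • x'
    rw [Algebra.smul_def, Algebra.smul_def, map_pow]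
    exact hn

theorem isLocalizedModule_factor {R M Y Z : Type u} [CommRing R] [AddCommGroup M] [AddCommGroup Y]
    [AddCommGroup Z] [Module R M] [Module R Y] [Module R Z] (a b : R)
    (f : M →ₗ[R] Y) [IsLocalizedModule (Submonoid.powers a) f]
    (h : M →ₗ[R] Z) [IsLocalizedModule (Submonoid.powers (a * b)) h]
    (g : Y →ₗ[R] Z) (hg : ∀ m, g (f m) = h m) : IsLocalizedModule (Submonoid.powers b) g where
  map_units := by
    rintro ⟨_, n, rfl⟩
    have h1 := IsLocalizedModule.map_units h (⟨(a * b) ^ n, n, rfl⟩ : Submonoid.powers (a * b))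
    show IsUnit (algebraMap R (Module.End R Z) (b ^ n))
    rw [show ((⟨(a * b) ^ n, n, rfl⟩ : Submonoid.powers (a * b)) : R) = a ^ n * b ^ n from mul_pow a b n,
      map_mul] at h1
    exact ((Algebra.commute_algebraMap_left (a ^ n) _).isUnit_mul_iff.1 h1).2
  surj := fun z => by
    obtain ⟨⟨m, ⟨_, n, rfl⟩⟩, hm⟩ := IsLocalizedModule.surj (Submonoid.powers (a * b)) h z
    have hu := IsLocalizedModule.map_units f (⟨a ^ n, n, rfl⟩ : Submonoid.powers a)
    obtain ⟨y, hy⟩ := ((Module.End.isUnit_iff _).1 hu).2 (f m)
    refine ⟨(y, ⟨b ^ n, n, rfl⟩), ?_⟩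
    have h1 := IsLocalizedModule.map_units h (⟨(a * b) ^ n, n, rfl⟩ : Submonoid.powers (a * b))
    rw [show ((⟨(a * b) ^ n, n, rfl⟩ : Submonoid.powers (a * b)) : R) = a ^ n * b ^ n from mul_pow a b n,
      map_mul] at h1
    have ha := ((Algebra.commute_algebraMap_left (a ^ n) _).isUnit_mul_iff.1 h1).1
    apply ((Module.End.isUnit_iff _).1 ha).1
    show a ^ n • b ^ n • z = a ^ n • g y
    have hy' : a ^ n • y = f m := hy
    have hm' : (a * b) ^ n • z = h m := hm
    rw [smul_smul, ← mul_pow, hm', ← map_smul g, hy', hg]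
  exists_of_eq := fun {y y'} e => by
    obtain ⟨⟨m, ⟨_, n, rfl⟩⟩, hm⟩ := IsLocalizedModule.surj (Submonoid.powers a) f (y - y')
    have hm' : a ^ n • (y - y') = f m := hm
    have h0 : h m = 0 := by rw [← hg, ← hm', map_smul, map_sub, e, sub_self, smul_zero]
    obtain ⟨⟨_, hcm⟩, hc⟩ := (IsLocalizedModule.eq_zero_iff (Submonoid.powers (a * b)) h).1 h0
    obtain ⟨q, rfl⟩ := (Submonoid.mem_powers_iff _ _).1 hcm
    refine ⟨⟨b ^ q, q, rfl⟩, ?_⟩
    show b ^ q • y = b ^ q • y'
    rw [← sub_eq_zero, ← smul_sub]
    have hc' : (a * b) ^ q • m = 0 := hc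
    have h2 : a ^ (q + n) • b ^ q • (y - y') = 0 := by
      rw [smul_comm, pow_add, mul_smul, hm', ← map_smul, ← map_smul, smul_smul, mul_comm, ← mul_pow, hc', map_zero]
    exact ((Module.End.isUnit_iff _).1 (IsLocalizedModule.map_units f
      (⟨a ^ (q + n), q + n, rfl⟩ : Submonoid.powers a))).1 (h2.trans (smul_zero _).symm)

variable {A : Type u} [CommRing A]

theorem exists_lift_away {X Y : Type u} [CommRing X] [CommRing Y] [Algebra A X] [Algebra A Y]
    (c : A) (Xc : Type u) [CommRing Xc] [Algebra X Xc] [Algebra A Xc] [IsScalarTower A X Xc]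
    [IsLocalization.Away (algebraMap A X c) Xc] (f : X →ₐ[A] Y) (hc : IsUnit (algebraMap A Y c)) :
    ∃ g : Xc →ₐ[A] Y, ∀ x, g (algebraMap X Xc x) = f x := by
  have hf : ∀ y : Submonoid.powers (algebraMap A X c), IsUnit (f y) := by
    rintro ⟨_, n, rfl⟩
    simp only [map_pow, AlgHom.commutes]
    exact hc.pow n
  exact ⟨IsLocalization.liftAlgHom (S := Xc) hf, fun x => IsLocalization.lift_eq _ x⟩

theorem algHom_ext_away {X Y : Type u} [CommRing X] [CommRing Y] [Algebra A X] [Algebra A Y]
    (c : A) (Xc : Type u) [CommRing Xc] [Algebra X Xc] [Algebra A Xc] [IsScalarTower A X Xc]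
    [IsLocalization.Away (algebraMap A X c) Xc] {g g' : Xc →ₐ[A] Y}
    (h : ∀ x, g (algebraMap X Xc x) = g' (algebraMap X Xc x)) : g = g' := by
  apply AlgHom.coe_ringHom_injective
  exact IsLocalization.ringHom_ext (Submonoid.powers (algebraMap A X c)) (RingHom.ext h)

theorem flat_prod {R N P : Type u} [CommRing R] [AddCommGroup N] [Module R N] [AddCommGroup P] [Module R P]
    [Module.Flat R N] [Module.Flat R P] : Module.Flat R (N × P) := by
  refine (Module.Flat.iff_lTensor_injective' (M := N × P)).mpr fun I => ?_
  have key : ∀ x, TensorProduct.prodLeft R R N P R (I.subtype.lTensor (N × P) x) =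
      Prod.map (I.subtype.lTensor N) (I.subtype.lTensor P) (TensorProduct.prodLeft R R N P I x) := fun x => by
    induction x using TensorProduct.induction_on with
    | zero => simp only [map_zero]; exact Prod.ext (by simp) (by simp)
    | tmul z r => obtain ⟨a, b⟩ := z; simp [Prod.map]
    | add x y hx hy => simp only [map_add, hx, hy]; exact Prod.ext (by simp) (by simp)
  intro x y hxy
  apply (TensorProduct.prodLeft R R N P I).injective
  have h := congrArg (TensorProduct.prodLeft R R N P R) hxy
  rw [key, key] at h
  exact (Module.Flat.lTensor_preserves_injective_linearMap I.subtype I.injective_subtype).prodMap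
    (Module.Flat.lTensor_preserves_injective_linearMap I.subtype I.injective_subtype) h

theorem flat_away_prod {C D : Type u} [CommRing C] [CommRing D] [Algebra A C] [Algebra A D] (c : A)
    [Module.Flat A D] [Module.Flat A (Localization.Away (algebraMap A C c))] :
    Module.Flat A (Localization.Away (algebraMap A (C × D) c)) := by
  haveI := isLocalizedModule_away (R := A) (X := C × D) (Y := Localization.Away (algebraMap A (C × D) c)) c
  haveI := isLocalizedModule_away (R := A) (X := C) (Y := Localization.Away (algebraMap A C c)) c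
  haveI := isLocalizedModule_away (R := A) (X := D) (Y := Localization.Away (algebraMap A D c)) c
  let e := IsLocalizedModule.linearEquiv (Submonoid.powers c)
    ((Algebra.linearMap (C × D) (Localization.Away (algebraMap A (C × D) c))).restrictScalars A)
    (((Algebra.linearMap C (Localization.Away (algebraMap A C c))).restrictScalars A).prodMap
      ((Algebra.linearMap D (Localization.Away (algebraMap A D c))).restrictScalars A))
  haveI : Module.Flat D (Localization.Away (algebraMap A D c)) :=
    IsLocalization.flat _ (Submonoid.powers (algebraMap A D c))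
  haveI : Module.Flat A (Localization.Away (algebraMap A D c)) := Module.Flat.trans A D _
  haveI := flat_prod (R := A) (N := Localization.Away (algebraMap A C c)) (P := Localization.Away (algebraMap A D c))
  exact Module.Flat.of_linearEquiv e

end Groth.Agent.EtaleGlueLib
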