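import Mathlib
import Groth.Agent.EtaleGlueLib.Loc

/-!
The module `J Y` over `S = X / J X` for an `X`-algebra `Y`, when `J² = 0`.
-/

set_option autoImplicit false
set_option linter.all false
set_option backward.isDefEq.respectTransparency.types false

universe u

namespace Groth.Agent.EtaleGlueLib

variable {A : Type u} [CommRing A]

/-- A square zero thickening `X → S` of `A`-algebras with kernel `J X`. -/
structure SqData (J : Ideal A) (X S : Type u) [CommRing X] [CommRing S] [Algebra A X] [Algebra A S] where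
  q : X →ₐ[A] S
  surj : Function.Surjective q
  ker : ∀ x, q x = 0 ↔ x ∈ J.map (algebraMap A X)
  sq : J ^ 2 = ⊥

variable {J : Ideal A} {X S : Type u} [CommRing X] [CommRing S] [Algebra A X] [Algebra A S]

/-- The ideal `J Y`, as an `S`-module. -/
def KMod (d : SqData J X S) {Y : Type u} [CommRing Y] [Algebra A Y] (f : X →ₐ[A] Y) : Type u :=
  ↥(J.map (algebraMap A Y))

namespace KMod

variable {d : SqData J X S} {Y : Type u} [CommRing Y] [Algebra A Y] {f : X →ₐ[A] Y}

instance : AddCommGroup (KMod d f) := inferInstanceAs (AddCommGroup ↥(J.map (algebraMap A Y)))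

/-- The element of `Y`. -/
def val (k : KMod d f) : Y := Subtype.val (p := fun y => y ∈ J.map (algebraMap A Y)) k

/-- An element of `J Y` as an element of `KMod`. -/
def mk (y : Y) (hy : y ∈ J.map (algebraMap A Y)) : KMod d f := (⟨y, hy⟩ : ↥(J.map (algebraMap A Y)))

theorem val_mem (k : KMod d f) : k.val ∈ J.map (algebraMap A Y) :=
  Subtype.property (p := fun y => y ∈ J.map (algebraMap A Y)) k

@[simp] theorem val_mk (y : Y) (hy) : (mk (d := d) (f := f) y hy).val = y := rfl

theorem ext {k k' : KMod d f} (h : k.val = k'.val) : k = k' :=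
  Subtype.ext (p := fun y => y ∈ J.map (algebraMap A Y)) h

@[simp] theorem val_zero : (0 : KMod d f).val = 0 := rfl
@[simp] theorem val_add (k k' : KMod d f) : (k + k').val = k.val + k'.val := rfl
@[simp] theorem val_sub (k k' : KMod d f) : (k - k').val = k.val - k'.val := rfl

theorem mul_eq_zero_of_mem {Z : Type u} [CommRing Z] [Algebra A Z] (d : SqData J X S) {y y' : Z}
    (h : y ∈ J.map (algebraMap A Z)) (h' : y' ∈ J.map (algebraMap A Z)) : y * y' = 0 := by
  have : y * y' ∈ (J ^ 2).map (algebraMap A Z) := by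
    rw [pow_two, Ideal.map_mul]; exact Ideal.mul_mem_mul h h'
  rwa [d.sq, Ideal.map_bot, Submodule.mem_bot] at this

theorem map_mem {Z : Type u} [CommRing Z] [Algebra A Z] (g : Y →ₐ[A] Z) {y : Y}
    (h : y ∈ J.map (algebraMap A Y)) : g y ∈ J.map (algebraMap A Z) := by
  have := Ideal.mem_map_of_mem g h
  rwa [← AlgHom.coe_toRingHom, ← Ideal.map_coe, Ideal.map_map, AlgHom.comp_algebraMap] at this

theorem key (k : KMod d f) {x x' : X} (h : d.q x = d.q x') : f x * k.val = f x' * k.val := by
  rw [← sub_eq_zero, ← sub_mul, ← map_sub]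
  exact mul_eq_zero_of_mem d (map_mem f ((d.ker _).1 (by rw [map_sub, h, sub_self]))) k.val_mem

noncomputable instance : SMul S (KMod d f) where
  smul s k := mk (f (Function.surjInv d.surj s) * k.val) (Ideal.mul_mem_left _ _ k.val_mem)

theorem val_smul_eq (s : S) (x : X) (hx : d.q x = s) (k : KMod d f) : (s • k).val = f x * k.val :=
  key k ((Function.surjInv_eq d.surj s).trans hx.symm)

noncomputable instance : Module S (KMod d f) where
  one_smul k := ext (by rw [val_smul_eq 1 1 (map_one _), map_one, one_mul])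
  mul_smul s t k := ext (by
    obtain ⟨x, hx⟩ := d.surj s
    obtain ⟨y, hy⟩ := d.surj t
    rw [val_smul_eq (s * t) (x * y) (by rw [map_mul, hx, hy]), val_smul_eq s x hx, val_smul_eq t y hy,
      map_mul, mul_assoc])
  smul_zero s := ext (by
    obtain ⟨x, hx⟩ := d.surj s
    rw [val_smul_eq s x hx, val_zero, mul_zero])
  smul_add s k k' := ext (by
    obtain ⟨x, hx⟩ := d.surj s
    rw [val_smul_eq s x hx, val_add, val_add, val_smul_eq s x hx, val_smul_eq s x hx, mul_add])
  add_smul s t k := ext (by
    obtain ⟨x, hx⟩ := d.surj s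
    obtain ⟨y, hy⟩ := d.surj t
    rw [val_smul_eq (s + t) (x + y) (by rw [map_add, hx, hy]), val_add, val_smul_eq s x hx,
      val_smul_eq t y hy, map_add, add_mul])
  zero_smul k := ext (by rw [val_smul_eq 0 0 (map_zero _), map_zero, zero_mul, val_zero])

variable {R : Type u} [CommRing R] [Algebra R S]

noncomputable instance : Module R (KMod d f) := Module.compHom _ (algebraMap R S)

instance : IsScalarTower R S (KMod d f) where
  smul_assoc r s k := by
    show (r • s) • k = algebraMap R S r • s • k
    rw [Algebra.smul_def, mul_smul]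

theorem val_rsmul_eq (r : R) (x : X) (hx : d.q x = algebraMap R S r) (k : KMod d f) :
    (r • k).val = f x * k.val :=
  val_smul_eq (algebraMap R S r) x hx k

theorem val_algebraMap_smul [Algebra A R] [IsScalarTower A R S] (c : A) (k : KMod d f) :
    (algebraMap A R c • k).val = algebraMap A Y c * k.val := by
  rw [val_rsmul_eq _ (algebraMap A X c) (by rw [AlgHom.commutes, ← IsScalarTower.algebraMap_apply]),
    AlgHom.commutes]

/-- Functoriality. -/
noncomputable def map {Z : Type u} [CommRing Z] [Algebra A Z] {f' : X →ₐ[A] Z} (g : Y →ₐ[A] Z)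
    (hg : g.comp f = f') : KMod d f →ₗ[S] KMod d f' where
  toFun k := mk (g k.val) (map_mem g k.val_mem)
  map_add' k k' := ext (by simp)
  map_smul' s k := ext (by
    obtain ⟨x, hx⟩ := d.surj s
    rw [RingHom.id_apply, val_mk, val_smul_eq s x hx (k := mk _ _), val_mk, val_smul_eq s x hx, map_mul, ← hg]
    rfl)

@[simp] theorem val_map {Z : Type u} [CommRing Z] [Algebra A Z] {f' : X →ₐ[A] Z} (g : Y →ₐ[A] Z)
    (hg : g.comp f = f') (k : KMod d f) : (map g hg k).val = g k.val := rfl

theorem isLocalizedModule_map [Algebra A R] [IsScalarTower A R S] {Z : Type u} [CommRing Z] [Algebra A Z]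
    {f' : X →ₐ[A] Z} (g : Y →ₐ[A] Z) (hg : g.comp f = f') (c : A)
    (hloc : letI := g.toRingHom.toAlgebra; IsLocalization.Away (algebraMap A Y c) Z) :
    IsLocalizedModule (Submonoid.powers (algebraMap A R c)) ((map (d := d) g hg).restrictScalars R) := by
  letI := g.toRingHom.toAlgebra
  haveI : IsScalarTower A Y Z := .of_algebraMap_eq fun a => (g.commutes a).symm
  haveI := hloc
  have hu : ∀ n : ℕ, IsUnit (algebraMap A Z (c ^ n)) := fun n => by
    rw [IsScalarTower.algebraMap_apply A Y Z, map_pow, map_pow]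
    exact (IsLocalization.Away.algebraMap_isUnit (algebraMap A Y c)).pow n
  have hs : ∀ (n : ℕ) (k : KMod d f'), (algebraMap A R c ^ n • k).val = algebraMap A Z (c ^ n) * k.val :=
    fun n k => by rw [← map_pow, val_algebraMap_smul]
  refine ⟨?_, ?_, ?_⟩
  · rintro ⟨_, n, rfl⟩
    rw [Module.End.isUnit_iff]
    refine ⟨fun k k' e => ext ?_, fun k => ⟨mk (↑(hu n).unit⁻¹ * k.val) (Ideal.mul_mem_left _ _ k.val_mem), ext ?_⟩⟩
    · have e' := congrArg val e
      simp only [Module.algebraMap_end_apply, hs] at e'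
      exact (hu n).mul_left_cancel e'
    · simp only [Module.algebraMap_end_apply, hs, val_mk]
      rw [← mul_assoc, IsUnit.mul_val_inv, one_mul]
  · intro k
    have hk : k.val ∈ (J.map (algebraMap A Y)).map (algebraMap Y Z) := by
      rw [Ideal.map_map, ← IsScalarTower.algebraMap_eq]; exact k.val_mem
    obtain ⟨⟨⟨y, hy⟩, ⟨_, hcm⟩⟩, h⟩ := (IsLocalization.mem_map_algebraMap_iff (Submonoid.powers (algebraMap A Y c)) Z).1 hk
    obtain ⟨n, rfl⟩ := (Submonoid.mem_powers_iff _ _).1 hcm
    refine ⟨(mk y hy, ⟨algebraMap A R c ^ n, n, rfl⟩), ext ?_⟩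
    show (algebraMap A R c ^ n • k).val = g y
    rw [hs, mul_comm, IsScalarTower.algebraMap_apply A Y Z, map_pow (algebraMap A Y)]
    exact h
  · intro k k' e
    have e' : g k.val = g k'.val := congrArg val e
    obtain ⟨n, hn⟩ := IsLocalization.Away.exists_of_eq (algebraMap A Y c) (S := Z) e'
    refine ⟨⟨algebraMap A R c ^ n, n, rfl⟩, ext ?_⟩
    show (algebraMap A R c ^ n • k).val = (algebraMap A R c ^ n • k').val
    rw [← map_pow, val_algebraMap_smul, val_algebraMap_smul, map_pow]
    exact hn

end KMod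

end Groth.Agent.EtaleGlueLib
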