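import Mathlib
import Groth.Agent.EtaleGlueLib.Glue

/-!
Gluing submodules given on the localisations.
-/

set_option autoImplicit false
set_option linter.all false
set_option backward.isDefEq.respectTransparency.types false

universe u

namespace Groth.Agent.EtaleGlueLib

open TensorProduct

variable {R S : Type u} [CommRing R] [CommRing S] [Algebra R S]

theorem mu_lTensor_subtype {M : Type u} [AddCommGroup M] [Module R M] [Module S M] [IsScalarTower R S M]
    (N : Submodule R M) (z : S ⊗[R] N) :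
    mu (R := R) (N.subtype.lTensor S z) = N.subtype.liftBaseChange S z := by
  induction z using TensorProduct.induction_on with
  | zero => simp
  | add a b ha hb => simp [ha, hb]
  | tmul c m => simp

theorem tensor_cancel {Y : Type u} [AddCommGroup Y] [Module R Y] (c : R)
    (hc : IsUnit (algebraMap R (Module.End R Y) c)) (z : S ⊗[R] Y) (hz : c • z = 0) : z = 0 := by
  obtain ⟨e, he⟩ := hc
  have h6 : ∀ y : S ⊗[R] Y, LinearMap.lTensor S (↑e⁻¹ : Module.End R Y) (c • y) = y := by
    intro y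
    induction y using TensorProduct.induction_on with
    | zero => simp
    | add b d hb hd => rw [smul_add, map_add, hb, hd]
    | tmul s m =>
      rw [← tmul_smul, LinearMap.lTensor_tmul]
      congr 1
      have : c • m = (↑e : Module.End R Y) m := by rw [he]; rfl
      rw [this, ← Module.End.mul_apply, Units.inv_mul, Module.End.one_apply]
  rw [← h6 z, hz, map_zero]

variable [Module.Flat R S] {ι : Type} [Fintype ι] {a : ι → R}
  [Algebra.FormallyUnramified R S] [Algebra.EssFiniteType R S]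
variable {M : Type u} [AddCommGroup M] [Module R M] [Module S M] [IsScalarTower R S M]
  {M1 : ι → Type u} [∀ i, AddCommGroup (M1 i)] [∀ i, Module R (M1 i)] [∀ i, Module S (M1 i)]
  [∀ i, IsScalarTower R S (M1 i)]
  {M2 : ι → ι → Type u} [∀ i j, AddCommGroup (M2 i j)] [∀ i j, Module R (M2 i j)]
  [∀ i j, Module S (M2 i j)] [∀ i j, IsScalarTower R S (M2 i j)]
  (l : ∀ i, M →ₗ[S] M1 i) (r1 : ∀ i j, M1 i →ₗ[S] M2 i j) (r2 : ∀ i j, M1 j →ₗ[S] M2 i j)
  (hl : ∀ i, IsLocalizedModule (Submonoid.powers (a i)) ((l i).restrictScalars R))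
  (hr1 : ∀ i j, IsLocalizedModule (Submonoid.powers (a j)) ((r1 i j).restrictScalars R))
  (hr2 : ∀ i j, IsLocalizedModule (Submonoid.powers (a i)) ((r2 i j).restrictScalars R))
  (hcomp : ∀ i j m, r1 i j (l i m) = r2 i j (l j m))
  (N : ∀ i, Submodule R (M1 i)) (hN : ∀ i, Function.Bijective ((N i).subtype.liftBaseChange S))
  (N2 : ∀ i j, Submodule R (M2 i j))
  (hN1 : ∀ i j y, y ∈ N2 i j ↔ ∃ p : ℕ, ∃ n ∈ N i, r1 i j n = a j ^ p • y)
  (hN2 : ∀ i j y, y ∈ N2 i j ↔ ∃ p : ℕ, ∃ n ∈ N j, r2 i j n = a i ^ p • y)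

include hl in
/-- A family compatible modulo the `N2` becomes global after multiplying by a power of `a k`. -/
theorem exists_pow_mem (hr1 : ∀ i j, IsLocalizedModule (Submonoid.powers (a j)) ((r1 i j).restrictScalars R))
    (hcomp : ∀ i j m, r1 i j (l i m) = r2 i j (l j m))
    (hN1 : ∀ i j y, y ∈ N2 i j ↔ ∃ p : ℕ, ∃ n ∈ N i, r1 i j n = a j ^ p • y)
    (x : ∀ i, M1 i) (hx : ∀ i j, r1 i j (x i) - r2 i j (x j) ∈ N2 i j) (k : ι) :
    ∃ (p : ℕ) (m : M), l k m = a k ^ p • x k ∧ ∀ i, a k ^ p • x i - l i m ∈ N i := by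
  classical
  haveI := hl k
  obtain ⟨⟨m₀, ⟨_, p, rfl⟩⟩, hm₀⟩ := IsLocalizedModule.surj (Submonoid.powers (a k)) ((l k).restrictScalars R) (x k)
  have hm : l k m₀ = a k ^ p • x k := hm₀.symm
  have h1 : ∀ i, ∃ q : ℕ, a k ^ q • (a k ^ p • x i - l i m₀) ∈ N i := by
    intro i
    have h2 : r1 i k (a k ^ p • x i - l i m₀) ∈ N2 i k := by
      rw [map_sub, LinearMap.map_smul_of_tower, hcomp, hm, LinearMap.map_smul_of_tower, ← smul_sub]
      exact Submodule.smul_mem _ _ (hx i k)
    obtain ⟨q, n, hn, hqn⟩ := (hN1 _ _ _).1 h2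
    haveI := hr1 i k
    obtain ⟨⟨_, hcm⟩, hq'⟩ := (IsLocalizedModule.eq_zero_iff (Submonoid.powers (a k)) ((r1 i k).restrictScalars R)).1
      (show (r1 i k).restrictScalars R (a k ^ q • (a k ^ p • x i - l i m₀) - n) = 0 by
        rw [LinearMap.restrictScalars_apply, map_sub, LinearMap.map_smul_of_tower, hqn, sub_self])
    obtain ⟨q', rfl⟩ := (Submonoid.mem_powers_iff _ _).1 hcm
    refine ⟨q' + q, ?_⟩
    have h3 : a k ^ q' • (a k ^ q • (a k ^ p • x i - l i m₀) - n) = 0 := hq'
    rw [smul_sub, sub_eq_zero] at h3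
    rw [pow_add, mul_smul, h3]
    exact Submodule.smul_mem _ _ hn
  choose q hq using h1
  refine ⟨(∑ i, q i) + p, a k ^ (∑ i, q i) • m₀, ?_, fun i => ?_⟩
  · rw [LinearMap.map_smul_of_tower, hm, pow_add, mul_smul]
  · obtain ⟨d, hd⟩ := Nat.exists_eq_add_of_le (Finset.single_le_sum (fun j _ => Nat.zero_le (q j)) (Finset.mem_univ i))
    rw [LinearMap.map_smul_of_tower, pow_add, mul_smul, ← smul_sub, hd, add_comm, pow_add, mul_smul]
    exact Submodule.smul_mem _ _ (hq i)

/-- The glued submodule. -/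
def glued : Submodule R M := ⨅ i, (N i).comap ((l i).restrictScalars R)

theorem mem_glued {m : M} : m ∈ glued l N ↔ ∀ i, l i m ∈ N i := by
  simp [glued, Submodule.mem_iInf]

include hl in
theorem exists_glued_lift (hr1 : ∀ i j, IsLocalizedModule (Submonoid.powers (a j)) ((r1 i j).restrictScalars R))
    (hcomp : ∀ i j m, r1 i j (l i m) = r2 i j (l j m))
    (hN1 : ∀ i j y, y ∈ N2 i j ↔ ∃ p : ℕ, ∃ n ∈ N i, r1 i j n = a j ^ p • y)
    (hN2 : ∀ i j y, y ∈ N2 i j ↔ ∃ p : ℕ, ∃ n ∈ N j, r2 i j n = a i ^ p • y)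
    (k : ι) (n : M1 k) (hn : n ∈ N k) :
    ∃ (p : ℕ), ∃ m ∈ glued l N, l k m = a k ^ p • n := by
  classical
  haveI := hl k
  obtain ⟨⟨m₀, ⟨_, p, rfl⟩⟩, hm₀⟩ := IsLocalizedModule.surj (Submonoid.powers (a k)) ((l k).restrictScalars R) n
  have hm : l k m₀ = a k ^ p • n := hm₀.symm
  have h1 : ∀ i, ∃ q : ℕ, a k ^ q • l i m₀ ∈ N i := by
    intro i
    have h2 : r1 i k (l i m₀) ∈ N2 i k := by
      rw [hcomp, hm]
      refine (hN2 _ _ _).2 ⟨0, _, Submodule.smul_mem _ (a k ^ p) hn, ?_⟩
      rw [pow_zero, one_smul]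
    obtain ⟨q, n', hn', hqn⟩ := (hN1 _ _ _).1 h2
    haveI := hr1 i k
    obtain ⟨⟨_, hcm⟩, hq'⟩ := (IsLocalizedModule.eq_zero_iff (Submonoid.powers (a k)) ((r1 i k).restrictScalars R)).1
      (show (r1 i k).restrictScalars R (a k ^ q • l i m₀ - n') = 0 by
        rw [LinearMap.restrictScalars_apply, map_sub, LinearMap.map_smul_of_tower, hqn, sub_self])
    obtain ⟨q', rfl⟩ := (Submonoid.mem_powers_iff _ _).1 hcm
    refine ⟨q' + q, ?_⟩
    have h3 : a k ^ q' • (a k ^ q • l i m₀ - n') = 0 := hq'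
    rw [smul_sub, sub_eq_zero] at h3
    rw [pow_add, mul_smul, h3]
    exact Submodule.smul_mem _ _ hn'
  choose q hq using h1
  refine ⟨(∑ i, q i) + p, a k ^ (∑ i, q i) • m₀, (mem_glued l N).2 fun i => ?_, ?_⟩
  · obtain ⟨d, hd⟩ := Nat.exists_eq_add_of_le (Finset.single_le_sum (fun j _ => Nat.zero_le (q j)) (Finset.mem_univ i))
    rw [LinearMap.map_smul_of_tower, hd, add_comm, pow_add, mul_smul]
    exact Submodule.smul_mem _ _ (hq i)
  · rw [LinearMap.map_smul_of_tower, hm, pow_add, mul_smul]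

include hr1 hN hN1 in
theorem liftBaseChange_N2_injective (i j : ι) :
    Function.Injective ((N2 i j).subtype.liftBaseChange S) := by
  classical
  let ρ : N i →ₗ[R] N2 i j := LinearMap.codRestrict (N2 i j) (((r1 i j).restrictScalars R).comp (N i).subtype)
    (fun n => (hN1 _ _ _).2 ⟨0, n, n.2, by simp⟩)
  have hsurj : ∀ z : S ⊗[R] N2 i j, ∃ (p : ℕ) (w : S ⊗[R] N i), ρ.lTensor S w = a j ^ p • z := by
    intro z
    induction z using TensorProduct.induction_on with
    | zero => exact ⟨0, 0, by simp⟩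
    | tmul s y =>
      obtain ⟨p, n, hn, hpn⟩ := (hN1 _ _ _).1 y.2
      refine ⟨p, s ⊗ₜ ⟨n, hn⟩, ?_⟩
      rw [LinearMap.lTensor_tmul, ← tmul_smul]
      exact congrArg _ (Subtype.ext hpn)
    | add z z' hz hz' =>
      obtain ⟨p, w, hw⟩ := hz
      obtain ⟨p', w', hw'⟩ := hz'
      refine ⟨p + p', a j ^ p' • w + a j ^ p • w', ?_⟩
      rw [map_add, map_smul, map_smul, hw, hw', smul_smul, smul_smul, smul_add, pow_add, mul_comm (a j ^ p')]
  rw [injective_iff_map_eq_zero]
  intro z hz
  obtain ⟨p, w, hw⟩ := hsurj z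
  have hnat : ∀ v, (N2 i j).subtype.liftBaseChange S (ρ.lTensor S v) = r1 i j ((N i).subtype.liftBaseChange S v) := fun v => by
    induction v using TensorProduct.induction_on with
    | zero => simp
    | add b c hb hc => simp [hb, hc]
    | tmul s n => simp [ρ]
  have h1 : r1 i j ((N i).subtype.liftBaseChange S w) = 0 := by
    rw [← hnat, hw, LinearMap.map_smul_of_tower, hz, smul_zero]
  haveI := hr1 i j
  obtain ⟨⟨c, hcm⟩, hc⟩ := (IsLocalizedModule.eq_zero_iff (Submonoid.powers (a j)) ((r1 i j).restrictScalars R)).1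
    (show (r1 i j).restrictScalars R _ = 0 from h1)
  obtain ⟨q, rfl⟩ := (Submonoid.mem_powers_iff _ _).1 hcm
  have h2 : a j ^ q • w = 0 := (hN i).1 (by
    rw [LinearMap.map_smul_of_tower, map_zero]; exact hc)
  have h3 : a j ^ (q + p) • (N2 i j).subtype.lTensor S z = 0 := by
    rw [← map_smul, pow_add, mul_smul, ← hw, ← map_smul, h2, map_zero, map_zero]
  have h4 := tensor_cancel _ (IsLocalizedModule.map_units ((r1 i j).restrictScalars R)
    (⟨_, ⟨_, rfl⟩⟩ : Submonoid.powers (a j))) _ h3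
  exact Module.Flat.lTensor_preserves_injective_linearMap (M := S) (N2 i j).subtype Subtype.val_injective
    (h4.trans (map_zero _).symm)

include hl hr1 hr2 hcomp hN hN1 hN2 in
theorem exists_global (hsurj : ∀ s : S, ∃ r, s - algebraMap R S r ∈ (Ideal.span (Set.range a)).map (algebraMap R S))
    (hinj : ∀ r : R, algebraMap R S r ∈ (Ideal.span (Set.range a)).map (algebraMap R S) → r ∈ Ideal.span (Set.range a))
    (x : ∀ i, M1 i) (hx : ∀ i j, r1 i j (x i) - r2 i j (x j) ∈ N2 i j) :
    ∃ m : M, ∀ i, l i m - x i ∈ N i := by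
  classical
  choose y hy using fun i => (hN i).2 (x i)
  have hk0 : ∀ i, mu (R := R) ((1 : S) ⊗ₜ[R] x i - (N i).subtype.lTensor S (y i)) = 0 := fun i => by
    rw [map_sub, mu_lTensor_subtype, hy, mu_tmul, one_smul, sub_self]
  have hcp : ∀ i j, ((r1 i j).restrictScalars R).lTensor S ((1 : S) ⊗ₜ[R] x i - (N i).subtype.lTensor S (y i)) =
      ((r2 i j).restrictScalars R).lTensor S ((1 : S) ⊗ₜ[R] x j - (N j).subtype.lTensor S (y j)) := by
    intro i j
    let ρ : N i →ₗ[R] N2 i j := LinearMap.codRestrict (N2 i j) (((r1 i j).restrictScalars R).comp (N i).subtype)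
      (fun n => (hN1 _ _ _).2 ⟨0, n, n.2, by simp⟩)
    let ρ' : N j →ₗ[R] N2 i j := LinearMap.codRestrict (N2 i j) (((r2 i j).restrictScalars R).comp (N j).subtype)
      (fun n => (hN2 _ _ _).2 ⟨0, n, n.2, by simp⟩)
    have e1 : ∀ v, (N2 i j).subtype.lTensor S (ρ.lTensor S v) =
        ((r1 i j).restrictScalars R).lTensor S ((N i).subtype.lTensor S v) := fun v => by
      rw [← LinearMap.lTensor_comp_apply, ← LinearMap.lTensor_comp_apply]; rfl
    have e2 : ∀ v, (N2 i j).subtype.lTensor S (ρ'.lTensor S v) =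
        ((r2 i j).restrictScalars R).lTensor S ((N j).subtype.lTensor S v) := fun v => by
      rw [← LinearMap.lTensor_comp_apply, ← LinearMap.lTensor_comp_apply]; rfl
    have key : ρ.lTensor S (y i) - ρ'.lTensor S (y j) = (1 : S) ⊗ₜ[R] (⟨_, hx i j⟩ : N2 i j) := by
      apply liftBaseChange_N2_injective r1 hr1 N hN N2 hN1 i j
      rw [← mu_lTensor_subtype, ← mu_lTensor_subtype, map_sub, e1, e2, map_sub, mu_natural, mu_natural,
        mu_lTensor_subtype, mu_lTensor_subtype, hy, hy, LinearMap.lTensor_tmul, mu_tmul, one_smul]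
      rfl
    have key' := congrArg ((N2 i j).subtype.lTensor S) key
    rw [map_sub, e1, e2, LinearMap.lTensor_tmul] at key'
    simp only [Submodule.subtype_apply, tmul_sub] at key'
    simp only [map_sub, LinearMap.lTensor_tmul, LinearMap.restrictScalars_apply]
    rw [sub_eq_sub_iff_sub_eq_sub]
    exact key'.symm
  obtain ⟨u, -, hu⟩ := glue_ker l r1 r2 hl hr1 hr2 hcomp hsurj _ hk0 hcp
  let Φ : M →ₗ[R] ∀ i, M1 i ⧸ N i := LinearMap.pi fun i => (N i).mkQ ∘ₗ (l i).restrictScalars R
  let ξ : ∀ i, M1 i ⧸ N i := fun i => (N i).mkQ (x i)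
  let q := (LinearMap.range Φ).mkQ
  have h1 : (1 : S) ⊗ₜ[R] q ξ = 0 := by
    have h2 : Φ.lTensor S u = (1 : S) ⊗ₜ[R] ξ := by
      apply (TensorProduct.piRight R R S fun i => M1 i ⧸ N i).injective
      funext i
      have hc : ∀ v, TensorProduct.piRight R R S (fun i => M1 i ⧸ N i) (Φ.lTensor S v) i =
          ((N i).mkQ ∘ₗ (l i).restrictScalars R).lTensor S v := fun v => by
        induction v using TensorProduct.induction_on with
        | zero => simp
        | add b c hb hc => simp only [map_add, Pi.add_apply, hb, hc]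
        | tmul s m => simp [Φ]
      rw [hc, LinearMap.lTensor_comp_apply, hu, map_sub, ← LinearMap.lTensor_comp_apply]
      rw [show (N i).mkQ ∘ₗ (N i).subtype = 0 from LinearMap.ext fun n => by simp]
      simp [ξ]
    rw [← LinearMap.lTensor_tmul, ← h2, ← LinearMap.lTensor_comp_apply,
      show q ∘ₗ Φ = 0 from LinearMap.range_mkQ_comp Φ]
    simp
  have h0 : q ξ = 0 := by
    refine detect hsurj hinj _ (fun k => ?_) h1
    obtain ⟨p, m, -, hm⟩ := exists_pow_mem l r1 r2 hl N N2 hr1 hcomp hN1 x hx k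
    refine ⟨p, ?_⟩
    rw [← map_smul]
    refine (Submodule.Quotient.mk_eq_zero _).2 ⟨m, funext fun i => ?_⟩
    show (N i).mkQ (l i m) = a k ^ p • (N i).mkQ (x i)
    rw [← map_smul, eq_comm]
    exact (Submodule.Quotient.eq _).2 (hm i)
  obtain ⟨m, hm⟩ := (Submodule.Quotient.mk_eq_zero _).1 h0
  refine ⟨m, fun i => (Submodule.Quotient.eq _).1 ?_⟩
  exact congrFun hm i

include hl hr1 hr2 hcomp hN hN1 hN2 in
theorem glued_bijective (hsurj : ∀ s : S, ∃ r, s - algebraMap R S r ∈ (Ideal.span (Set.range a)).map (algebraMap R S)) :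
    Function.Bijective ((glued l N).subtype.liftBaseChange S) := by
  classical
  set L := glued l N
  constructor
  · rw [injective_iff_map_eq_zero]
    intro z hz
    have hz' : mu (R := R) (L.subtype.lTensor S z) = 0 := by rw [mu_lTensor_subtype, hz]
    have h0 : L.subtype.lTensor S z = 0 := by
      refine ker_ext l r1 r2 hl hr1 hr2 hcomp hsurj _ hz' fun i => ?_
      let ρ : L →ₗ[R] N i := LinearMap.codRestrict (N i) (((l i).restrictScalars R).comp L.subtype)
        (fun m => (mem_glued l N).1 m.2 i)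
      have e : ∀ v, (N i).subtype.lTensor S (ρ.lTensor S v) =
          ((l i).restrictScalars R).lTensor S (L.subtype.lTensor S v) := fun v => by
        rw [← LinearMap.lTensor_comp_apply, ← LinearMap.lTensor_comp_apply]; rfl
      rw [← e]
      have : ρ.lTensor S z = 0 := (hN i).1 (by
        rw [map_zero, ← mu_lTensor_subtype, e, mu_natural, hz', map_zero])
      rw [this, map_zero]
    exact Module.Flat.lTensor_preserves_injective_linearMap (M := S) L.subtype Subtype.val_injective
      (h0.trans (map_zero _).symm)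
  · intro m
    choose y hy using fun i => (hN i).2 (l i m)
    have hk0 : ∀ i, mu (R := R) ((N i).subtype.lTensor S (y i) - (1 : S) ⊗ₜ[R] l i m) = 0 := fun i => by
      rw [map_sub, mu_lTensor_subtype, hy, mu_tmul, one_smul, sub_self]
    have hcp : ∀ i j, ((r1 i j).restrictScalars R).lTensor S ((N i).subtype.lTensor S (y i) - (1 : S) ⊗ₜ[R] l i m) =
        ((r2 i j).restrictScalars R).lTensor S ((N j).subtype.lTensor S (y j) - (1 : S) ⊗ₜ[R] l j m) := by
      intro i j
      let ρ : N i →ₗ[R] N2 i j := LinearMap.codRestrict (N2 i j) (((r1 i j).restrictScalars R).comp (N i).subtype)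
        (fun n => (hN1 _ _ _).2 ⟨0, n, n.2, by simp⟩)
      let ρ' : N j →ₗ[R] N2 i j := LinearMap.codRestrict (N2 i j) (((r2 i j).restrictScalars R).comp (N j).subtype)
        (fun n => (hN2 _ _ _).2 ⟨0, n, n.2, by simp⟩)
      have e1 : ∀ v, (N2 i j).subtype.lTensor S (ρ.lTensor S v) =
          ((r1 i j).restrictScalars R).lTensor S ((N i).subtype.lTensor S v) := fun v => by
        rw [← LinearMap.lTensor_comp_apply, ← LinearMap.lTensor_comp_apply]; rfl
      have e2 : ∀ v, (N2 i j).subtype.lTensor S (ρ'.lTensor S v) =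
          ((r2 i j).restrictScalars R).lTensor S ((N j).subtype.lTensor S v) := fun v => by
        rw [← LinearMap.lTensor_comp_apply, ← LinearMap.lTensor_comp_apply]; rfl
      have key : ρ.lTensor S (y i) = ρ'.lTensor S (y j) := by
        apply liftBaseChange_N2_injective r1 hr1 N hN N2 hN1 i j
        rw [← mu_lTensor_subtype, ← mu_lTensor_subtype, e1, e2, mu_natural, mu_natural,
          mu_lTensor_subtype, mu_lTensor_subtype, hy, hy, hcomp]
      simp only [map_sub, LinearMap.lTensor_tmul, LinearMap.restrictScalars_apply, hcomp]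
      rw [← e1, ← e2, key]
    obtain ⟨u, hu0, hu⟩ := glue_ker l r1 r2 hl hr1 hr2 hcomp hsurj _ hk0 hcp
    let Φ : M →ₗ[R] ∀ i, M1 i ⧸ N i := LinearMap.pi fun i => (N i).mkQ ∘ₗ (l i).restrictScalars R
    have hex : Function.Exact L.subtype Φ := by
      intro v
      constructor
      · intro hv
        exact ⟨⟨v, (mem_glued l N).2 fun i => (Submodule.Quotient.mk_eq_zero _).1 (congrFun hv i)⟩, rfl⟩
      · rintro ⟨w, rfl⟩
        funext i
        exact (Submodule.Quotient.mk_eq_zero _).2 ((mem_glued l N).1 w.2 i)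
    have hz : Φ.lTensor S ((1 : S) ⊗ₜ[R] m + u) = 0 := by
      apply (TensorProduct.piRight R R S fun i => M1 i ⧸ N i).injective
      rw [map_zero]
      funext i
      have hc : ∀ v, TensorProduct.piRight R R S (fun i => M1 i ⧸ N i) (Φ.lTensor S v) i =
          ((N i).mkQ ∘ₗ (l i).restrictScalars R).lTensor S v := fun v => by
        induction v using TensorProduct.induction_on with
        | zero => simp
        | add b c hb hc => simp only [map_add, Pi.add_apply, hb, hc]
        | tmul s m => simp [Φ]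
      rw [hc, LinearMap.lTensor_comp_apply, map_add, hu, LinearMap.lTensor_tmul, LinearMap.restrictScalars_apply,
        add_sub_cancel, ← LinearMap.lTensor_comp_apply]
      rw [show (N i).mkQ ∘ₗ (N i).subtype = 0 from LinearMap.ext fun n => by simp]
      simp
    obtain ⟨w, hw⟩ := (Module.Flat.lTensor_exact S hex _).1 hz
    refine ⟨w, ?_⟩
    rw [← mu_lTensor_subtype, hw, map_add, mu_tmul, one_smul, hu0, add_zero]

end Groth.Agent.EtaleGlueLib
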