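import Mathlib
import Groth.Agent.EtaleGlueLib.Sub

/-!
Saturations of the image of a map into a localised module.
-/

set_option autoImplicit false
set_option linter.all false
set_option backward.isDefEq.respectTransparency.types false

universe u

namespace Groth.Agent.EtaleGlueLib

open TensorProduct

variable {R : Type u} [CommRing R] {M₀ Y Z : Type u} [AddCommGroup M₀] [AddCommGroup Y] [AddCommGroup Z]
  [Module R M₀] [Module R Y] [Module R Z]

/-- `{y | a ^ p • y ∈ im f}`. -/
def sat (a : R) (f : M₀ →ₗ[R] Y) : Submodule R Y where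
  carrier := {y | ∃ (p : ℕ) (m : M₀), f m = a ^ p • y}
  zero_mem' := ⟨0, 0, by simp⟩
  add_mem' := by
    rintro y y' ⟨p, m, hm⟩ ⟨p', m', hm'⟩
    refine ⟨p + p', a ^ p' • m + a ^ p • m', ?_⟩
    rw [map_add, map_smul, map_smul, hm, hm', smul_smul, smul_smul, smul_add, ← pow_add, ← pow_add,
      add_comm p']
  smul_mem' := by
    rintro c y ⟨p, m, hm⟩
    exact ⟨p, c • m, by rw [map_smul, hm, smul_comm]⟩

theorem mem_sat {a : R} {f : M₀ →ₗ[R] Y} {y : Y} : y ∈ sat a f ↔ ∃ (p : ℕ) (m : M₀), f m = a ^ p • y :=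
  Iff.rfl

theorem self_mem_sat (a : R) (f : M₀ →ₗ[R] Y) (m : M₀) : f m ∈ sat a f := ⟨0, m, by simp⟩

/-- Localising a saturation. -/
theorem mem_sat_iff {a b : R} (f : M₀ →ₗ[R] Y) (h : M₀ →ₗ[R] Z) (g : Y →ₗ[R] Z) (hg : ∀ m, g (f m) = h m)
    (ha : ∀ n : ℕ, Function.Bijective fun y : Y => a ^ n • y)
    (ha' : ∀ n : ℕ, Function.Bijective fun z : Z => a ^ n • z) (z : Z) :
    z ∈ sat (a * b) h ↔ ∃ p : ℕ, ∃ n ∈ sat a f, g n = b ^ p • z := by
  constructor
  · rintro ⟨p, m, hm⟩
    obtain ⟨n, hn⟩ := (ha p).2 (f m)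
    refine ⟨p, n, ⟨p, m, hn.symm⟩, (ha' p).1 ?_⟩
    show a ^ p • g n = a ^ p • b ^ p • z
    rw [← map_smul, show a ^ p • n = f m from hn, hg, hm, smul_smul, mul_pow]
  · rintro ⟨p, n, ⟨q, m, hm⟩, hn⟩
    refine ⟨p + q, (a ^ p * b ^ q) • m, ?_⟩
    rw [map_smul, ← hg, hm, map_smul, hn, smul_smul, smul_smul]
    congr 1
    ring

/-- Multiplication by powers of `a` is bijective on a saturation. -/
theorem sat_smul_bijective {a : R} (f : M₀ →ₗ[R] Y) (ha : ∀ n : ℕ, Function.Bijective fun y : Y => a ^ n • y)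
    (n : ℕ) : IsUnit (algebraMap R (Module.End R (sat a f)) (a ^ n)) := by
  rw [Module.End.isUnit_iff]
  refine ⟨fun x x' e => ?_, fun x => ?_⟩
  · simp only [Module.algebraMap_end_apply] at e
    exact Subtype.ext ((ha n).1 (congrArg Subtype.val e))
  · obtain ⟨y, hy⟩ := (ha n).2 x.1
    obtain ⟨p, m, hm⟩ := x.2
    refine ⟨⟨y, p + n, m, ?_⟩, Subtype.ext ?_⟩
    · rw [hm, pow_add, mul_smul, show a ^ n • y = x.1 from hy]
    · simp only [Module.algebraMap_end_apply, SetLike.val_smul]
      exact hy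

theorem bijective_of_isLocalizedModule (c : R) (f : M₀ →ₗ[R] Y) [IsLocalizedModule (Submonoid.powers c) f]
    (n : ℕ) : Function.Bijective fun y : Y => c ^ n • y :=
  (Module.End.isUnit_iff _).1 (IsLocalizedModule.map_units f (⟨c ^ n, n, rfl⟩ : Submonoid.powers c))

theorem bijective_left_of_isLocalizedModule (a b : R) (f : M₀ →ₗ[R] Y)
    [IsLocalizedModule (Submonoid.powers (a * b)) f] (n : ℕ) : Function.Bijective fun y : Y => a ^ n • y := by
  have h1 := IsLocalizedModule.map_units f (⟨(a * b) ^ n, n, rfl⟩ : Submonoid.powers (a * b))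
  rw [show ((⟨(a * b) ^ n, n, rfl⟩ : Submonoid.powers (a * b)) : R) = a ^ n * b ^ n from mul_pow a b n,
    map_mul] at h1
  exact (Module.End.isUnit_iff _).1 ((Algebra.commute_algebraMap_left (a ^ n) _).isUnit_mul_iff.1 h1).1

theorem bijective_right_of_isLocalizedModule (a b : R) (f : M₀ →ₗ[R] Y)
    [IsLocalizedModule (Submonoid.powers (a * b)) f] (n : ℕ) : Function.Bijective fun y : Y => b ^ n • y := by
  have h1 := IsLocalizedModule.map_units f (⟨(a * b) ^ n, n, rfl⟩ : Submonoid.powers (a * b))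
  rw [show ((⟨(a * b) ^ n, n, rfl⟩ : Submonoid.powers (a * b)) : R) = a ^ n * b ^ n from mul_pow a b n,
    map_mul] at h1
  exact (Module.End.isUnit_iff _).1 ((Algebra.commute_algebraMap_left (a ^ n) _).isUnit_mul_iff.1 h1).2

/-- A localised module over `S` is the base change of the saturation of the image of `R`. -/
theorem sat_algebra_bijective {S : Type u} [CommRing S] [Algebra R S] {S1 : Type u} [CommRing S1]
    [Algebra R S1] [Algebra S S1] [IsScalarTower R S S1] (a : R)
    [IsLocalizedModule (Submonoid.powers a) ((Algebra.linearMap S S1).restrictScalars R)] :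
    Function.Bijective ((sat a (Algebra.linearMap R S1)).subtype.liftBaseChange S) := by
  set f := (Algebra.linearMap S S1).restrictScalars R
  set N := sat a (Algebra.linearMap R S1)
  have ha : ∀ n : ℕ, Function.Bijective fun y : S1 => a ^ n • y := bijective_of_isLocalizedModule a f
  let one : N := ⟨1, 0, 1, by simp⟩
  have hu : ∀ x : Submonoid.powers a, IsUnit (algebraMap R (Module.End R (S ⊗[R] N)) x) := by
    rintro ⟨_, n, rfl⟩
    obtain ⟨e, he⟩ := sat_smul_bijective (Algebra.linearMap R S1) ha n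
    have h1 : algebraMap R (Module.End R (S ⊗[R] N)) (a ^ n) =
        (algebraMap R (Module.End R N) (a ^ n)).lTensor S := by
      refine TensorProduct.ext' fun s m => ?_
      simp only [← map_pow, LinearMap.lTensor_tmul, Module.algebraMap_end_apply, tmul_smul]
    show IsUnit (algebraMap R (Module.End R (S ⊗[R] N)) (a ^ n))
    rw [h1, ← he, Module.End.isUnit_iff]
    refine Function.bijective_iff_has_inverse.2 ⟨(↑e⁻¹ : Module.End R N).lTensor S, fun z => ?_, fun z => ?_⟩
    · rw [← LinearMap.lTensor_comp_apply, ← Module.End.mul_eq_comp, Units.inv_mul]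
      simp [Module.End.one_eq_id]
    · rw [← LinearMap.lTensor_comp_apply, ← Module.End.mul_eq_comp, Units.mul_inv]
      simp [Module.End.one_eq_id]
  let G : S1 →ₗ[R] S ⊗[R] N :=
    IsLocalizedModule.lift (Submonoid.powers a) f ((TensorProduct.mk R S N).flip one) hu
  have hG : ∀ s : S, G (algebraMap S S1 s) = s ⊗ₜ[R] one := fun s =>
    IsLocalizedModule.lift_apply (Submonoid.powers a) f _ hu s
  have hsurj : Function.Surjective G := by
    intro z
    induction z using TensorProduct.induction_on with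
    | zero => exact ⟨0, map_zero _⟩
    | add z z' hz hz' =>
      obtain ⟨y, rfl⟩ := hz
      obtain ⟨y', rfl⟩ := hz'
      exact ⟨y + y', map_add _ _ _⟩
    | tmul s y =>
      obtain ⟨p, r, hr⟩ := y.2
      obtain ⟨w, hw⟩ := (ha p).2 (algebraMap S S1 (r • s))
      refine ⟨w, ((Module.End.isUnit_iff _).1 (hu ⟨a ^ p, p, rfl⟩)).1 ?_⟩
      show a ^ p • G w = a ^ p • s ⊗ₜ[R] y
      rw [← map_smul, show a ^ p • w = algebraMap S S1 (r • s) from hw, hG, ← tmul_smul, smul_tmul]
      refine congrArg (fun n : N => s ⊗ₜ[R] n) (Subtype.ext ?_)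
      show r • (1 : S1) = a ^ p • (y : S1)
      rw [← hr, Algebra.linearMap_apply, Algebra.algebraMap_eq_smul_one]
  have hid : ∀ w, N.subtype.liftBaseChange S (G w) = w := by
    have : ((N.subtype.liftBaseChange S).restrictScalars R).comp G = LinearMap.id := by
      refine IsLocalizedModule.ext (Submonoid.powers a) f
        (fun x => IsLocalizedModule.map_units f x) (LinearMap.ext fun s => ?_)
      simp only [LinearMap.comp_apply, LinearMap.restrictScalars_apply, LinearMap.id_apply, f, Algebra.linearMap_apply, hG,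
        LinearMap.liftBaseChange_tmul, Submodule.subtype_apply, one]
      rw [Algebra.smul_def, mul_one]
    exact fun w => LinearMap.congr_fun this w
  refine ⟨fun z z' h => ?_, fun w => ⟨G w, hid w⟩⟩
  obtain ⟨w, rfl⟩ := hsurj z
  obtain ⟨w', rfl⟩ := hsurj z'
  rw [hid, hid] at h
  rw [h]

end Groth.Agent.EtaleGlueLib
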