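import Mathlib
import Groth.Agent.EtaleGlueLib.KMod
import Groth.Agent.EtaleGlueLib.Sat

/-!
`J Y` is the base change of the saturation of `J R` for a flat localisation `Y` of `X`.
-/

set_option autoImplicit false
set_option linter.all false
set_option backward.isDefEq.respectTransparency.types false

universe u

namespace Groth.Agent.EtaleGlueLib

open TensorProduct

variable {A : Type u} [CommRing A] {J : Ideal A} {X S R : Type u} [CommRing X] [CommRing S] [CommRing R]
  [Algebra A X] [Algebra A S] [Algebra A R] [Algebra R S] [IsScalarTower A R S]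
  {d : SqData J X S} {Y : Type u} [CommRing Y] [Algebra A Y] {f : X →ₐ[A] Y}

namespace KMod

noncomputable instance : Module A (KMod d f) := inferInstanceAs (Module A ↥(J.map (algebraMap A Y)))

theorem val_asmul (c : A) (k : KMod d f) : (c • k).val = algebraMap A Y c * k.val := by
  show c • k.val = _
  rw [Algebra.smul_def]

instance : IsScalarTower A R (KMod d f) where
  smul_assoc c r k := ext (by
    obtain ⟨x, hx⟩ := d.surj (algebraMap R S r)
    rw [val_asmul, val_rsmul_eq (c • r) (algebraMap A X c * x)
      (by rw [map_mul, AlgHom.commutes, hx, Algebra.smul_def, map_mul, ← IsScalarTower.algebraMap_apply]),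
      val_rsmul_eq r x hx, map_mul, AlgHom.commutes, mul_assoc])

variable (R d f) in
/-- `j ↦ j • 1`. -/
noncomputable def ofJ : J →ₗ[A] KMod d f where
  toFun j := mk (algebraMap A Y j) (Ideal.mem_map_of_mem _ j.2)
  map_add' j j' := ext (by simp)
  map_smul' c j := ext (by simp [val_asmul])

variable (R d f) in
/-- The map `R ⊗ J → J Y`. -/
noncomputable def gam : R ⊗[A] J →ₗ[R] KMod d f := (ofJ d f).liftBaseChange R

theorem val_gam_tmul (r : R) (x : X) (hx : d.q x = algebraMap R S r) (j : J) :
    (gam R d f (r ⊗ₜ j)).val = f x * algebraMap A Y j := by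
  rw [gam, LinearMap.liftBaseChange_tmul, val_rsmul_eq r x hx]
  rfl

theorem gam_natural {Z : Type u} [CommRing Z] [Algebra A Z] {f' : X →ₐ[A] Z} (g : Y →ₐ[A] Z)
    (hg : g.comp f = f') (m : R ⊗[A] J) :
    (map (d := d) g hg).restrictScalars R (gam R d f m) = gam R d f' m := by
  induction m using TensorProduct.induction_on with
  | zero => simp
  | add a b ha hb => simp only [map_add, ha, hb]
  | tmul r j =>
    refine ext ?_
    obtain ⟨x, hx⟩ := d.surj (algebraMap R S r)
    rw [LinearMap.restrictScalars_apply, val_map, val_gam_tmul r x hx, val_gam_tmul r x hx, map_mul,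
      AlgHom.commutes, ← hg]
    rfl

end KMod

open KMod

/-- The base change property. -/
theorem kmod_sat_bijective (c : A) [Module.Flat A Y]
    (hloc : letI := f.toRingHom.toAlgebra; IsLocalization.Away (algebraMap A X c) Y) :
    Function.Bijective ((sat (algebraMap A R c) (gam R d f)).subtype.liftBaseChange S) := by
  letI := f.toRingHom.toAlgebra
  haveI : IsScalarTower A X Y := .of_algebraMap_eq fun a => (f.commutes a).symm
  haveI := hloc
  haveI := isLocalizedModule_away (R := A) (X := X) (Y := Y) c
  have hu : ∀ n : ℕ, IsUnit (algebraMap A Y (c ^ n)) := fun n => by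
    rw [IsScalarTower.algebraMap_apply A X Y, map_pow, map_pow]
    exact (IsLocalization.Away.algebraMap_isUnit (algebraMap A X c)).pow n
  have hs : ∀ (n : ℕ) (k : KMod d f), (algebraMap A R c ^ n • k).val = algebraMap A Y (c ^ n) * k.val :=
    fun n k => by rw [← map_pow, val_algebraMap_smul]
  have ha : ∀ n : ℕ, Function.Bijective fun k : KMod d f => algebraMap A R c ^ n • k := fun n => by
    refine ⟨fun k k' e => KMod.ext ?_, fun k => ⟨KMod.mk (↑(hu n).unit⁻¹ * k.val) (Ideal.mul_mem_left _ _ k.val_mem), KMod.ext ?_⟩⟩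
    · have e' := congrArg KMod.val e
      simp only [hs] at e'
      exact (hu n).mul_left_cancel e'
    · simp only [hs, KMod.val_mk]
      rw [← mul_assoc, IsUnit.mul_val_inv, one_mul]
  set N := sat (algebraMap A R c) (gam R d f)
  let nj : J →ₗ[A] N :=
    { toFun := fun j => ⟨gam R d f (1 ⊗ₜ j), self_mem_sat _ _ _⟩
      map_add' := fun j j' => Subtype.ext (by simp [tmul_add])
      map_smul' := fun c' j => Subtype.ext (by
        show gam R d f (1 ⊗ₜ (c' • j)) = c' • gam R d f (1 ⊗ₜ j)
        rw [tmul_smul, LinearMap.map_smul_of_tower]) }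
  let G₀ : X →ₗ[A] (J →ₗ[A] S ⊗[R] N) := LinearMap.mk₂ A (fun x j => d.q x ⊗ₜ[R] nj j)
    (fun x x' j => by rw [map_add, add_tmul])
    (fun c' x j => by rw [map_smul, smul_tmul'])
    (fun x j j' => by rw [map_add, tmul_add])
    (fun c' x j => by rw [map_smul, ← algebraMap_smul R c' (nj j), tmul_smul, algebraMap_smul])
  have hbij : ∀ n : ℕ, Function.Bijective fun z : S ⊗[R] N => algebraMap A R c ^ n • z := fun n => by
    obtain ⟨e, he⟩ := sat_smul_bijective (gam R d f) ha n
    have h1 : ∀ z : S ⊗[R] N, algebraMap A R c ^ n • z = (↑e : Module.End R N).lTensor S z := fun z => by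
      induction z using TensorProduct.induction_on with
      | zero => simp
      | add b b' hb hb' => rw [smul_add, hb, hb', map_add]
      | tmul s m => rw [← tmul_smul, LinearMap.lTensor_tmul, he, Module.algebraMap_end_apply]
    simp only [h1]
    refine Function.bijective_iff_has_inverse.2 ⟨(↑e⁻¹ : Module.End R N).lTensor S, fun z => ?_, fun z => ?_⟩
    all_goals dsimp only
    · rw [← LinearMap.lTensor_comp_apply, ← Module.End.mul_eq_comp, Units.inv_mul]
      simp [Module.End.one_eq_id]
    · rw [← LinearMap.lTensor_comp_apply, ← Module.End.mul_eq_comp, Units.mul_inv]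
      simp [Module.End.one_eq_id]
  have hHom : ∀ x : Submonoid.powers c, IsUnit (algebraMap A (Module.End A (J →ₗ[A] S ⊗[R] N)) x) := by
    rintro ⟨_, n, rfl⟩
    rw [Module.End.isUnit_iff]
    have e : ∀ z : S ⊗[R] N, (c ^ n : A) • z = algebraMap A R c ^ n • z := fun z => by
      rw [← map_pow, algebraMap_smul]
    refine ⟨fun g g' h => LinearMap.ext fun j => (hbij n).1 ?_, fun g => ?_⟩
    · simp only [← e]
      exact LinearMap.congr_fun h j
    · choose w hw using fun j => (hbij n).2 (g j)
      refine ⟨{ toFun := w, map_add' := fun j j' => (hbij n).1 ?_, map_smul' := fun c' j => (hbij n).1 ?_ },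
        LinearMap.ext fun j => ?_⟩
      · simp only [smul_add] at *
        rw [hw, hw, hw, map_add]
      · simp only [RingHom.id_apply] at *
        rw [hw, map_smul, ← hw, smul_comm]
      · show (c ^ n : A) • w j = g j
        rw [e]; exact hw j
  let G : Y →ₗ[A] (J →ₗ[A] S ⊗[R] N) := IsLocalizedModule.lift (Submonoid.powers c)
    ((Algebra.linearMap X Y).restrictScalars A) G₀ hHom
  have hG : ∀ x, G (f x) = G₀ x := fun x =>
    IsLocalizedModule.lift_apply (Submonoid.powers c) ((Algebra.linearMap X Y).restrictScalars A) _ hHom x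
  let G' : J ⊗[A] Y →ₗ[A] S ⊗[R] N := TensorProduct.lift G.flip
  have hsurj : Function.Surjective G' := by
    intro z
    induction z using TensorProduct.induction_on with
    | zero => exact ⟨0, map_zero _⟩
    | add z z' hz hz' =>
      obtain ⟨y, rfl⟩ := hz
      obtain ⟨y', rfl⟩ := hz'
      exact ⟨y + y', map_add _ _ _⟩
    | tmul s y =>
      obtain ⟨p, m, hm⟩ := y.2
      suffices H : ∀ m : R ⊗[A] J, ∃ v, G' v = s ⊗ₜ[R] (⟨gam R d f m, self_mem_sat _ _ _⟩ : N) by
        obtain ⟨v, hv⟩ := H m
        refine ⟨(LinearMap.mulLeft A (↑(hu p).unit⁻¹ : Y)).lTensor J v, (hbij p).1 ?_⟩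
        show algebraMap A R c ^ p • G' _ = algebraMap A R c ^ p • s ⊗ₜ[R] y
        rw [← map_pow, algebraMap_smul, ← map_smul, ← tmul_smul]
        have hv' : (c ^ p : A) • (LinearMap.mulLeft A (↑(hu p).unit⁻¹ : Y)).lTensor J v = v := by
          clear hv
          induction v using TensorProduct.induction_on with
          | zero => simp
          | add v v' hv hv' => rw [map_add, smul_add, hv, hv']
          | tmul j z =>
            rw [LinearMap.lTensor_tmul, ← tmul_smul, LinearMap.mulLeft_apply, Algebra.smul_def, ← mul_assoc,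
              IsUnit.mul_val_inv, one_mul]
        rw [hv', hv]
        exact congrArg (fun n : N => s ⊗ₜ[R] n) (Subtype.ext (by rw [map_pow]; exact hm))
      intro m
      induction m using TensorProduct.induction_on with
      | zero => exact ⟨0, by simp only [map_zero]; exact (tmul_zero _ s).symm⟩
      | add m m' hm hm' =>
        obtain ⟨v, hv⟩ := hm
        obtain ⟨v', hv'⟩ := hm'
        refine ⟨v + v', ?_⟩
        rw [map_add, hv, hv', ← tmul_add]
        exact congrArg (fun n : N => s ⊗ₜ[R] n) (Subtype.ext (map_add _ _ _).symm)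
      | tmul r j =>
        obtain ⟨x, hx⟩ := d.surj (r • s)
        refine ⟨j ⊗ₜ f x, ?_⟩
        simp only [G', TensorProduct.lift.tmul, LinearMap.flip_apply, hG, G₀, LinearMap.mk₂_apply, hx, smul_tmul]
        refine congrArg (fun n : N => s ⊗ₜ[R] n) (Subtype.ext ?_)
        show r • gam R d f (1 ⊗ₜ j) = gam R d f (r ⊗ₜ j)
        rw [← map_smul, smul_tmul', smul_eq_mul, mul_one]
  let e : J ⊗[A] Y →ₗ[A] Y := (TensorProduct.lid A Y).toLinearMap ∘ₗ LinearMap.rTensor Y J.subtype
  have he : Function.Injective e :=
    (TensorProduct.lid A Y).injective.comp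
      (Module.Flat.rTensor_preserves_injective_linearMap J.subtype Subtype.val_injective)
  have he' : ∀ (j : J) (y : Y), e (j ⊗ₜ y) = algebraMap A Y j * y := fun j y => by
    simp [e, Algebra.smul_def]
  have hmul : ∀ (y' : Y) (v : J ⊗[A] Y), e ((LinearMap.mulLeft A y').lTensor J v) = y' • e v := fun y' v => by
    induction v using TensorProduct.induction_on with
    | zero => simp
    | add v v' hv hv' => rw [map_add, map_add, map_add, hv, hv', smul_add]
    | tmul j z =>
      simp only [LinearMap.lTensor_tmul, LinearMap.mulLeft_apply, he', smul_eq_mul]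
      ring
  have hid : ∀ v, (N.subtype.liftBaseChange S (G' v)).val = e v := by
    intro v
    induction v using TensorProduct.induction_on with
    | zero => simp only [map_zero]; rfl
    | add v v' hv hv' => rw [map_add, map_add, KMod.val_add, hv, hv', map_add]
    | tmul j y =>
      obtain ⟨⟨x, ⟨_, p, rfl⟩⟩, hx⟩ := IsLocalizedModule.surj (Submonoid.powers c)
        ((Algebra.linearMap X Y).restrictScalars A) y
      have hx' : (c ^ p : A) • y = f x := hx
      apply (hu p).mul_left_cancel
      rw [← hs, ← LinearMap.map_smul_of_tower, ← map_pow, algebraMap_smul, ← map_smul, ← tmul_smul, hx', he',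
        TensorProduct.lift.tmul, LinearMap.flip_apply, hG]
      simp only [G₀, LinearMap.mk₂_apply, LinearMap.liftBaseChange_tmul, Submodule.subtype_apply, nj,
        LinearMap.coe_mk, AddHom.coe_mk]
      rw [KMod.val_smul_eq (d.q x) x rfl, val_gam_tmul (1 : R) 1 (by rw [map_one, map_one]), map_one, one_mul,
        ← hx', Algebra.smul_def]
      ring
  refine ⟨?_, fun k => ?_⟩
  · intro z z' h
    obtain ⟨v, rfl⟩ := hsurj z
    obtain ⟨v', rfl⟩ := hsurj z'
    rw [he (a₁ := v) (a₂ := v') (by rw [← hid, ← hid, h])]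
  · suffices H : ∀ y ∈ J.map (algebraMap A Y), ∃ v, e v = y by
      obtain ⟨v, hv⟩ := H k.val k.val_mem
      exact ⟨G' v, KMod.ext ((hid v).trans hv)⟩
    intro y hy
    rw [Ideal.map] at hy
    induction hy using Submodule.span_induction with
    | mem y hy =>
      obtain ⟨j, hj, rfl⟩ := hy
      exact ⟨(⟨j, hj⟩ : J) ⊗ₜ 1, by rw [he', mul_one]⟩
    | zero => exact ⟨0, map_zero _⟩
    | add y y' _ _ hy hy' =>
      obtain ⟨v, rfl⟩ := hy
      obtain ⟨v', rfl⟩ := hy'
      exact ⟨v + v', map_add _ _ _⟩
    | smul y' y _ hy =>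
      obtain ⟨v, rfl⟩ := hy
      exact ⟨(LinearMap.mulLeft A y').lTensor J v, hmul y' v⟩

end Groth.Agent.EtaleGlueLib
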