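import Mathlib
import Groth.Agent.EtaleGlueLib.KMod

/-!
Étale lifts `B'` of the localisations of `R` map canonically to thickenings.
-/

set_option autoImplicit false
set_option linter.all false
set_option backward.isDefEq.respectTransparency.types false

universe u

namespace Groth.Agent.EtaleGlueLib

variable {A : Type u} [CommRing A] {J : Ideal A} {X S R : Type u} [CommRing X] [CommRing S] [CommRing R]
  [Algebra A X] [Algebra A S] [Algebra A R] [Algebra R S] [IsScalarTower A R S]
  {ι : Type} (a : ι → A) {B' : ι → Type u} [∀ i, CommRing (B' i)] [∀ i, Algebra A (B' i)]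
  (d : SqData J X S) (π : ∀ i, B' i →ₐ[A] Localization.Away (algebraMap A R (a i)))

/-- `φ : B' i → Y` is compatible with `f : X → Y`. -/
def Lifts {Y : Type u} [CommRing Y] [Algebra A Y] (i : ι) (f : X →ₐ[A] Y) (φ : B' i →ₐ[A] Y) : Prop :=
  ∀ (b : B' i) (x : X) (r : R) (n : ℕ),
    π i b * algebraMap A _ (a i) ^ n = algebraMap R _ r → d.q x = algebraMap R S r →
    φ b * algebraMap A Y (a i) ^ n - f x ∈ J.map (algebraMap A Y)

variable {a d π}

theorem Lifts.comp {Y Z : Type u} [CommRing Y] [Algebra A Y] [CommRing Z] [Algebra A Z] {i : ι}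
    {f : X →ₐ[A] Y} {φ : B' i →ₐ[A] Y} (h : Lifts a d π i f φ) (g : Y →ₐ[A] Z) :
    Lifts a d π i (g.comp f) (g.comp φ) := fun b x r n h1 h2 => by
  have := KMod.map_mem g (h b x r n h1 h2)
  simpa using this

theorem exists_repr (i : ι) (b : B' i) :
    ∃ (r : R) (n : ℕ), π i b * algebraMap A _ (a i) ^ n = algebraMap R _ r := by
  obtain ⟨n, r, h⟩ := IsLocalization.Away.surj (algebraMap A R (a i)) (π i b)
  refine ⟨r, n, ?_⟩
  rwa [← IsScalarTower.algebraMap_apply] at h

theorem isNilpotent_map {Y : Type u} [CommRing Y] [Algebra A Y] (d : SqData J X S) :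
    IsNilpotent (J.map (algebraMap A Y)) :=
  ⟨2, by rw [← Ideal.map_pow, d.sq, Ideal.map_bot]; rfl⟩

theorem Lifts.unique [∀ i, Algebra.Etale A (B' i)] {Y : Type u} [CommRing Y] [Algebra A Y] {i : ι}
    {f : X →ₐ[A] Y} (hu : IsUnit (algebraMap A Y (a i))) {φ φ' : B' i →ₐ[A] Y}
    (h : Lifts a d π i f φ) (h' : Lifts a d π i f φ') : φ = φ' := by
  refine Algebra.FormallyUnramified.ext (J.map (algebraMap A Y)) (isNilpotent_map d) fun b => ?_
  obtain ⟨r, n, hr⟩ := exists_repr (π := π) i b
  obtain ⟨x, hx⟩ := d.surj (algebraMap R S r)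
  have h1 := sub_mem (h b x r n hr hx) (h' b x r n hr hx)
  rw [sub_sub_sub_cancel_right, ← sub_mul] at h1
  rw [Ideal.Quotient.eq]
  obtain ⟨u, hu'⟩ := hu.pow n
  have := Ideal.mul_mem_right (↑u⁻¹ : Y) _ h1
  rwa [mul_assoc, ← hu', Units.mul_inv, mul_one] at this

theorem exists_lifts [∀ i, Algebra.Etale A (B' i)] {Y : Type u} [CommRing Y] [Algebra A Y] (i : ι)
    (f : X →ₐ[A] Y) (hu : IsUnit (algebraMap A Y (a i))) :
    ∃ φ : B' i →ₐ[A] Y, Lifts a d π i f φ := by
  let Yb := Y ⧸ J.map (algebraMap A Y)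
  let mk : Y →ₐ[A] Yb := Ideal.Quotient.mkₐ A _
  have key : ∀ x x', d.q x = d.q x' → mk (f x) = mk (f x') := fun x x' h => by
    apply Ideal.Quotient.eq.2
    rw [← map_sub]
    exact KMod.map_mem f ((d.ker _).1 (by rw [map_sub, h, sub_self]))
  let σ : R → X := fun r => Function.surjInv d.surj (algebraMap R S r)
  have hσ : ∀ r, d.q (σ r) = algebraMap R S r := fun r => Function.surjInv_eq d.surj _
  let h : R →ₐ[A] Yb :=
    { toFun := fun r => mk (f (σ r))
      map_one' := by rw [key (σ 1) 1 (by rw [hσ, map_one, map_one]), map_one, map_one]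
      map_mul' := fun r r' => by
        rw [key (σ (r * r')) (σ r * σ r') (by rw [hσ, map_mul, map_mul, hσ, hσ]), map_mul, map_mul]
      map_zero' := by rw [key (σ 0) 0 (by rw [hσ, map_zero, map_zero]), map_zero, map_zero]
      map_add' := fun r r' => by
        rw [key (σ (r + r')) (σ r + σ r') (by rw [hσ, map_add, map_add, hσ, hσ]), map_add, map_add]
      commutes' := fun c => by
        rw [key (σ (algebraMap A R c)) (algebraMap A X c)
          (by rw [hσ, AlgHom.commutes, ← IsScalarTower.algebraMap_apply]), AlgHom.commutes, AlgHom.commutes] }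
  obtain ⟨g, hg⟩ := exists_lift_away (a i) (Localization.Away (algebraMap A R (a i))) h
    (by rw [← AlgHom.commutes mk]; exact hu.map mk)
  have hker : IsNilpotent (RingHom.ker (mk : Y →+* Yb)) := by
    rw [show RingHom.ker (mk : Y →+* Yb) = J.map (algebraMap A Y) from Ideal.mk_ker]
    exact isNilpotent_map d
  refine ⟨Algebra.FormallySmooth.liftOfSurjective (g.comp (π i)) mk Ideal.Quotient.mk_surjective hker,
    fun b x r n hr hx => ?_⟩
  set φ := Algebra.FormallySmooth.liftOfSurjective (g.comp (π i)) mk Ideal.Quotient.mk_surjective hker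
  have h1 : mk (φ b) = g (π i b) := Algebra.FormallySmooth.liftOfSurjective_apply _ _ _ _ b
  rw [← Ideal.Quotient.eq]
  show mk (φ b * algebraMap A Y (a i) ^ n) = mk (f x)
  rw [map_mul, map_pow, h1, AlgHom.commutes, ← AlgHom.commutes g, ← map_pow, ← map_mul, hr, hg]
  exact key _ _ ((hσ r).trans hx.symm)

/-- Compatibility of two lifts on an overlap. -/
theorem exists_overlap [∀ i, Algebra.Etale A (B' i)] (hπs : ∀ i, Function.Surjective (π i))
    {Y : Type u} [CommRing Y] [Algebra A Y] {i j : ι} {f : X →ₐ[A] Y}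
    (hi : IsUnit (algebraMap A Y (a i))) (hj : IsUnit (algebraMap A Y (a j)))
    {φi : B' i →ₐ[A] Y} {φj : B' j →ₐ[A] Y} (h : Lifts a d π i f φi) (h' : Lifts a d π j f φj)
    (hπk : ∀ i, ∀ b : B' i, π i b = 0 → b ∈ J.map (algebraMap A (B' i))) (b : B' j) :
    ∃ (p : ℕ) (b' : B' i), φi b' = algebraMap A Y (a j) ^ p * φj b := by
  let W := Localization.Away (algebraMap A (B' i) (a j))
  let Wb := W ⧸ J.map (algebraMap A W)
  let mk : W →ₐ[A] Wb := Ideal.Quotient.mkₐ A _
  let w : B' i →ₐ[A] Wb := mk.comp (IsScalarTower.toAlgHom A (B' i) W)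
  have key : ∀ x x', π i x = π i x' → w x = w x' := fun x x' e => by
    rw [← sub_eq_zero, ← map_sub]
    exact Ideal.Quotient.eq_zero_iff_mem.2 (KMod.map_mem (IsScalarTower.toAlgHom A (B' i) W) (hπk i (x - x') (by rw [map_sub, e, sub_self])))
  let σ : R → B' i := fun r => Function.surjInv (hπs i) (algebraMap R _ r)
  have hσ : ∀ r, π i (σ r) = algebraMap R _ r := fun r => Function.surjInv_eq (hπs i) _
  let h0 : R →ₐ[A] Wb :=
    { toFun := fun r => w (σ r)
      map_one' := by rw [key (σ 1) 1 (by rw [hσ, map_one, map_one]), map_one]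
      map_mul' := fun r r' => by
        rw [key (σ (r * r')) (σ r * σ r') (by rw [hσ, map_mul, map_mul, hσ, hσ]), map_mul]
      map_zero' := by rw [key (σ 0) 0 (by rw [hσ, map_zero, map_zero]), map_zero]
      map_add' := fun r r' => by
        rw [key (σ (r + r')) (σ r + σ r') (by rw [hσ, map_add, map_add, hσ, hσ]), map_add]
      commutes' := fun c => by
        rw [key (σ (algebraMap A R c)) (algebraMap A (B' i) c)
          (by rw [hσ, AlgHom.commutes, ← IsScalarTower.algebraMap_apply]), AlgHom.commutes] }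
  have huW : IsUnit (algebraMap A W (a j)) := by
    rw [IsScalarTower.algebraMap_apply A (B' i) W]
    exact IsLocalization.Away.algebraMap_isUnit _
  obtain ⟨g, hg⟩ := exists_lift_away (a j) (Localization.Away (algebraMap A R (a j))) h0
    (by rw [← AlgHom.commutes mk]; exact huW.map mk)
  have hker : IsNilpotent (RingHom.ker (mk : W →+* Wb)) := by
    rw [show RingHom.ker (mk : W →+* Wb) = J.map (algebraMap A W) from Ideal.mk_ker]
    exact isNilpotent_map d
  let ψ := Algebra.FormallySmooth.liftOfSurjective (g.comp (π j)) mk Ideal.Quotient.mk_surjective hker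
  obtain ⟨Φ, hΦ⟩ := exists_lift_away (a j) W φi hj
  have hl : Lifts a d π j f (Φ.comp ψ) := by
    intro c x r n hr hx
    have h1 : mk (ψ c) = g (π j c) := Algebra.FormallySmooth.liftOfSurjective_apply _ _ _ _ c
    have h2 : ψ c * algebraMap A W (a j) ^ n - algebraMap (B' i) W (σ r) ∈ J.map (algebraMap A W) := by
      rw [← Ideal.Quotient.eq]
      show mk (ψ c * algebraMap A W (a j) ^ n) = w (σ r)
      rw [map_mul, map_pow, h1, AlgHom.commutes, ← AlgHom.commutes g, ← map_pow, ← map_mul, hr, hg]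
      rfl
    have h3 := KMod.map_mem Φ h2
    rw [map_sub, map_mul, map_pow, AlgHom.commutes, hΦ] at h3
    have h4 := h (σ r) x r 0 (by rw [pow_zero, mul_one, hσ]) hx
    rw [pow_zero, mul_one] at h4
    have h5 := add_mem h3 h4
    rwa [sub_add_sub_cancel] at h5
  have heq := Lifts.unique hj hl h'
  obtain ⟨p, b', hb'⟩ := IsLocalization.Away.surj (algebraMap A (B' i) (a j)) (ψ b)
  refine ⟨p, b', ?_⟩
  rw [← hΦ, ← hb', map_mul, map_pow, ← IsScalarTower.algebraMap_apply, AlgHom.commutes, ← heq,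
    AlgHom.comp_apply, mul_comm]

end Groth.Agent.EtaleGlueLib
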