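import Mathlib
import Groth.Agent.EtaleGlueLib.Lifts
import Groth.Agent.EtaleGlueLib.KBase

/-!
The glued subalgebra `B = {c ∈ X | c|_i ∈ B' i}` of a square zero thickening.
-/

set_option autoImplicit false
set_option linter.all false
set_option backward.isDefEq.respectTransparency.types false

universe u

namespace Groth.Agent.EtaleGlueLib

open TensorProduct

variable {A : Type u} [CommRing A] {J : Ideal A} {X S R : Type u} [CommRing X] [CommRing S] [CommRing R]
  [Algebra A X] [Algebra A S] [Algebra A R] [Algebra R S] [IsScalarTower A R S]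
  {ι : Type} [Fintype ι] (a : ι → A) {B' : ι → Type u} [∀ i, CommRing (B' i)] [∀ i, Algebra A (B' i)]
  [∀ i, Algebra.Etale A (B' i)]
  (d : SqData J X S) (π : ∀ i, B' i →ₐ[A] Localization.Away (algebraMap A R (a i)))
  (φ : ∀ i, B' i →ₐ[A] Localization.Away (algebraMap A X (a i)))
  (hφ : ∀ i, Lifts a d π i (IsScalarTower.toAlgHom A X _) (φ i))
  (hφi : ∀ i, Function.Injective (φ i))
  (hχ : ∀ i (r : R), algebraMap R S r = 0 → algebraMap R (Localization.Away (algebraMap A R (a i))) r = 0)
  (hπs : ∀ i, Function.Surjective (π i))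
  (hπk : ∀ i (b : B' i), π i b = 0 ↔ b ∈ J.map (algebraMap A (B' i)))
  (hφJ : ∀ i (b : B' i), φ i b ∈ J.map (algebraMap A (Localization.Away (algebraMap A X (a i)))) →
    b ∈ J.map (algebraMap A (B' i)))
  [∀ i, Module.Flat A (Localization.Away (algebraMap A X (a i)))]
  [Module.Flat R S] [Algebra.FormallyUnramified R S] [Algebra.EssFiniteType R S]
  (hsurj : ∀ s : S, ∃ r, s - algebraMap R S r ∈
    (Ideal.span (Set.range fun i => algebraMap A R (a i))).map (algebraMap R S))
  (hinj : ∀ r : R, algebraMap R S r ∈ (Ideal.span (Set.range fun i => algebraMap A R (a i))).map (algebraMap R S) →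
    r ∈ Ideal.span (Set.range fun i => algebraMap A R (a i)))

/-- The glued subalgebra. -/
noncomputable def gluedAlg : Subalgebra A X :=
  ⨅ i, (φ i).range.comap (IsScalarTower.toAlgHom A X _)

omit [Fintype ι] in
theorem mem_gluedAlg {c : X} : c ∈ gluedAlg a φ ↔
    ∀ i, ∃ b, φ i b = algebraMap X (Localization.Away (algebraMap A X (a i))) c := by
  simp [gluedAlg, Algebra.mem_iInf, AlgHom.mem_range]

theorem isLocalization_toAlgHom {A X Y : Type u} [CommRing A] [CommRing X] [CommRing Y] [Algebra A X] [Algebra A Y]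
    [inst : Algebra X Y] [IsScalarTower A X Y] (c : X) [h : IsLocalization.Away c Y] :
    letI := (IsScalarTower.toAlgHom A X Y).toRingHom.toAlgebra
    IsLocalization.Away c Y := by
  convert h
  exact Algebra.algebra_ext _ _ fun _ => rfl

set_option maxHeartbeats 1600000 in
include hφ hφi hχ hπs hπk hφJ hsurj hinj in
theorem gluedAlg_spec :
    (∀ c ∈ gluedAlg a φ, ∃! r : R, algebraMap R S r = d.q c) ∧
    (∀ r : R, ∃ c ∈ gluedAlg a φ, d.q c = algebraMap R S r) ∧
    (∀ c : gluedAlg a φ, d.q c = 0 → c ∈ J.map (algebraMap A (gluedAlg a φ))) ∧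
    (∀ i (b : B' i), ∃ (p : ℕ), ∃ c ∈ gluedAlg a φ,
      algebraMap X (Localization.Away (algebraMap A X (a i))) c = algebraMap A _ (a i) ^ p * φ i b) ∧
    (∀ z : S ⊗[R] (glued (fun i => KMod.map (d := d) (f := AlgHom.id A X)
        (IsScalarTower.toAlgHom A X (Localization.Away (algebraMap A X (a i)))) (AlgHom.comp_id _))
        (fun i => sat (algebraMap A R (a i)) (KMod.gam R d (IsScalarTower.toAlgHom A X (Localization.Away (algebraMap A X (a i))))))),
      (Submodule.subtype _).liftBaseChange S z = 0 → z = 0) ∧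
    (∀ k : KMod d (AlgHom.id A X), k ∈ glued (fun i => KMod.map (d := d) (f := AlgHom.id A X)
        (IsScalarTower.toAlgHom A X (Localization.Away (algebraMap A X (a i)))) (AlgHom.comp_id _))
        (fun i => sat (algebraMap A R (a i)) (KMod.gam R d (IsScalarTower.toAlgHom A X (Localization.Away (algebraMap A X (a i))))))
      ↔ k.val ∈ gluedAlg a φ) := by
  classical
  -- notation
  let C1 := fun i => Localization.Away (algebraMap A X (a i))
  let C2 := fun i j => Localization.Away (algebraMap A X (a i * a j))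
  let f1 : ∀ i, X →ₐ[A] C1 i := fun i => IsScalarTower.toAlgHom A X _
  let f2 : ∀ i j, X →ₐ[A] C2 i j := fun i j => IsScalarTower.toAlgHom A X _
  have hu1 : ∀ i, IsUnit (algebraMap A (C1 i) (a i)) := fun i => by
    rw [IsScalarTower.algebraMap_apply A X (C1 i)]
    exact IsLocalization.Away.algebraMap_isUnit _
  have hu2 : ∀ i j, IsUnit (algebraMap A (C2 i j) (a i)) ∧ IsUnit (algebraMap A (C2 i j) (a j)) := fun i j => by
    rw [← IsUnit.mul_iff, ← map_mul, IsScalarTower.algebraMap_apply A X (C2 i j)]
    exact IsLocalization.Away.algebraMap_isUnit _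
  have hres1 : ∀ i j, ∃ g : C1 i →ₐ[A] C2 i j, g.comp (f1 i) = f2 i j := fun i j => by
    obtain ⟨g, hg⟩ := exists_lift_away (a i) (C1 i) (f2 i j) (hu2 i j).1
    exact ⟨g, AlgHom.ext hg⟩
  have hres2 : ∀ i j, ∃ g : C1 j →ₐ[A] C2 i j, g.comp (f1 j) = f2 i j := fun i j => by
    obtain ⟨g, hg⟩ := exists_lift_away (a j) (C1 j) (f2 i j) (hu2 i j).2
    exact ⟨g, AlgHom.ext hg⟩
  choose res1 hres1 using hres1
  choose res2 hres2 using hres2
  have hres1' : ∀ i j x, res1 i j (algebraMap X (C1 i) x) = algebraMap X (C2 i j) x :=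
    fun i j x => AlgHom.congr_fun (hres1 i j) x
  have hres2' : ∀ i j x, res2 i j (algebraMap X (C1 j) x) = algebraMap X (C2 i j) x :=
    fun i j x => AlgHom.congr_fun (hres2 i j) x
  -- kernel of restriction
  have hkill : ∀ i j (y : C1 i), res1 i j y = 0 → ∃ q : ℕ, algebraMap A (C1 i) (a j) ^ q * y = 0 := by
    intro i j y hy
    obtain ⟨n, x, hx⟩ := IsLocalization.Away.surj (algebraMap A X (a i)) y
    have h0 : algebraMap X (C2 i j) x = 0 := by rw [← hres1', ← hx, map_mul, hy, zero_mul]
    obtain ⟨⟨_, hcm⟩, hc⟩ := (IsLocalization.map_eq_zero_iff (Submonoid.powers (algebraMap A X (a i * a j))) (C2 i j) x).1 h0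
    obtain ⟨q, rfl⟩ := (Submonoid.mem_powers_iff _ _).1 hcm
    refine ⟨q, ?_⟩
    apply ((hu1 i).pow (q + n)).mul_left_cancel
    rw [mul_zero]
    have h1 := congrArg (algebraMap X (C1 i)) hc
    rw [map_zero, map_mul, map_pow, ← IsScalarTower.algebraMap_apply A X (C1 i), map_mul (algebraMap A (C1 i)),
      ← hx, ← IsScalarTower.algebraMap_apply] at h1
    rw [← h1]
    ring
  -- overlaps
  have hov1 : ∀ i j (b : B' j), ∃ (p : ℕ) (b' : B' i),
      res1 i j (φ i b') = algebraMap A (C2 i j) (a j) ^ p * res2 i j (φ j b) := fun i j b =>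
    exists_overlap (d := d) (f := f2 i j) hπs (hu2 i j).1 (hu2 i j).2 (φi := (res1 i j).comp (φ i)) (φj := (res2 i j).comp (φ j))
      (by rw [← hres1 i j]; exact (hφ i).comp _) (by rw [← hres2 i j]; exact (hφ j).comp _)
      (fun i b => (hπk i b).1) b
  -- modules
  let K : Type u := KMod d (AlgHom.id A X)
  let K1 := fun i => KMod d (f1 i)
  let K2 := fun i j => KMod d (f2 i j)
  let l : ∀ i, K →ₗ[S] K1 i := fun i => KMod.map (f1 i) (AlgHom.comp_id _)
  let r1 : ∀ i j, K1 i →ₗ[S] K2 i j := fun i j => KMod.map (res1 i j) (hres1 i j)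
  let r2 : ∀ i j, K1 j →ₗ[S] K2 i j := fun i j => KMod.map (res2 i j) (hres2 i j)
  have hcomp : ∀ i j m, r1 i j (l i m) = r2 i j (l j m) := fun i j m => KMod.ext (by
    simp only [r1, r2, l, KMod.val_map]
    exact ((hres1' i j _).trans (hres2' i j _).symm))
  have hl : ∀ i, IsLocalizedModule (Submonoid.powers (algebraMap A R (a i))) ((l i).restrictScalars R) := fun i =>
    KMod.isLocalizedModule_map (d := d) (f1 i) _ (a i)
      (isLocalization_toAlgHom (A := A) (Y := C1 i) (algebraMap A X (a i)))
  have hl2 : ∀ i j, IsLocalizedModule (Submonoid.powers (algebraMap A R (a i) * algebraMap A R (a j)))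
      ((KMod.map (d := d) (f := AlgHom.id A X) (f2 i j) (AlgHom.comp_id _)).restrictScalars R) := fun i j => by
    rw [← map_mul]
    exact KMod.isLocalizedModule_map (d := d) (f2 i j) _ (a i * a j)
      (isLocalization_toAlgHom (A := A) (Y := C2 i j) (algebraMap A X (a i * a j)))
  have hr1 : ∀ i j, IsLocalizedModule (Submonoid.powers (algebraMap A R (a j))) ((r1 i j).restrictScalars R) :=
    fun i j => by
      haveI := hl i
      haveI := hl2 i j
      exact isLocalizedModule_factor (algebraMap A R (a i)) _ ((l i).restrictScalars R)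
        ((KMod.map (d := d) (f := AlgHom.id A X) (f2 i j) (AlgHom.comp_id _)).restrictScalars R) _
        (fun m => KMod.ext (by simp only [r1, l, LinearMap.restrictScalars_apply, KMod.val_map]; exact hres1' i j _))
  have hr2 : ∀ i j, IsLocalizedModule (Submonoid.powers (algebraMap A R (a i))) ((r2 i j).restrictScalars R) :=
    fun i j => by
      haveI := hl j
      haveI := hl2 i j
      haveI : IsLocalizedModule (Submonoid.powers (algebraMap A R (a j) * algebraMap A R (a i)))
          ((KMod.map (d := d) (f := AlgHom.id A X) (f2 i j) (AlgHom.comp_id _)).restrictScalars R) := by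
        rw [mul_comm (algebraMap A R (a j))]; infer_instance
      exact isLocalizedModule_factor (algebraMap A R (a j)) _ ((l j).restrictScalars R)
        ((KMod.map (d := d) (f := AlgHom.id A X) (f2 i j) (AlgHom.comp_id _)).restrictScalars R) _
        (fun m => KMod.ext (by simp only [r2, l, LinearMap.restrictScalars_apply, KMod.val_map]; exact hres2' i j _))
  let N : ∀ i, Submodule R (K1 i) := fun i => sat (algebraMap A R (a i)) (KMod.gam R d (f1 i))
  let N2 : ∀ i j, Submodule R (K2 i j) := fun i j =>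
    sat (algebraMap A R (a i) * algebraMap A R (a j)) (KMod.gam R d (f2 i j))
  have hN : ∀ i, Function.Bijective ((N i).subtype.liftBaseChange S) := fun i =>
    kmod_sat_bijective (a i) (isLocalization_toAlgHom (A := A) (Y := C1 i) (algebraMap A X (a i)))
  have hb1 : ∀ i (n : ℕ), Function.Bijective fun y : K1 i => algebraMap A R (a i) ^ n • y := fun i =>
    haveI := hl i; bijective_of_isLocalizedModule _ ((l i).restrictScalars R)
  have hb2 : ∀ i j (n : ℕ), Function.Bijective fun y : K2 i j => algebraMap A R (a i) ^ n • y := fun i j =>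
    haveI := hl2 i j; bijective_left_of_isLocalizedModule _ (algebraMap A R (a j))
      ((KMod.map (d := d) (f := AlgHom.id A X) (f2 i j) (AlgHom.comp_id _)).restrictScalars R)
  have hb2' : ∀ i j (n : ℕ), Function.Bijective fun y : K2 i j => algebraMap A R (a j) ^ n • y := fun i j =>
    haveI := hl2 i j; bijective_right_of_isLocalizedModule (algebraMap A R (a i)) _
      ((KMod.map (d := d) (f := AlgHom.id A X) (f2 i j) (AlgHom.comp_id _)).restrictScalars R)
  have hN1 : ∀ i j y, y ∈ N2 i j ↔ ∃ p : ℕ, ∃ n ∈ N i, r1 i j n = algebraMap A R (a j) ^ p • y := fun i j y =>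
    mem_sat_iff (KMod.gam R d (f1 i)) (KMod.gam R d (f2 i j)) ((r1 i j).restrictScalars R)
      (fun m => KMod.gam_natural (res1 i j) (hres1 i j) m) (hb1 i) (hb2 i j) y
  have hN2 : ∀ i j y, y ∈ N2 i j ↔ ∃ p : ℕ, ∃ n ∈ N j, r2 i j n = algebraMap A R (a i) ^ p • y := fun i j y => by
    show y ∈ sat (algebraMap A R (a i) * algebraMap A R (a j)) _ ↔ _
    rw [mul_comm (algebraMap A R (a i)) (algebraMap A R (a j))]
    exact mem_sat_iff (KMod.gam R d (f1 j)) (KMod.gam R d (f2 i j)) ((r2 i j).restrictScalars R)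
      (fun m => KMod.gam_natural (res2 i j) (hres2 i j) m) (hb1 j) (hb2' i j) y
  have hsmul : ∀ i (p : ℕ) (k : K1 i),
      (algebraMap A R (a i) ^ p • k).val = algebraMap A (C1 i) (a i) ^ p * k.val := fun i p k => by
    rw [← map_pow, KMod.val_algebraMap_smul, map_pow]
  -- `N i` consists of the elements of `J (B' i)`
  have hchar : ∀ i (k : K1 i), k ∈ N i ↔ ∃ b ∈ J.map (algebraMap A (B' i)), φ i b = k.val := by
    intro i k
    constructor
    · rintro ⟨p, m, hm⟩
      suffices H : ∀ m, ∃ b ∈ J.map (algebraMap A (B' i)), φ i b = (KMod.gam R d (f1 i) m).val by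
        obtain ⟨b, hb, e⟩ := H m
        have hub : IsUnit (algebraMap A (B' i) (a i)) := by
          have hk : IsNilpotent (RingHom.ker (π i).toRingHom) := by
            rw [show RingHom.ker (π i).toRingHom = J.map (algebraMap A (B' i)) from Ideal.ext (hπk i)]
            exact isNilpotent_map d
          have : IsUnit (π i (algebraMap A (B' i) (a i))) := by
            rw [AlgHom.commutes, IsScalarTower.algebraMap_apply A R (Localization.Away (algebraMap A R (a i)))]
            exact IsLocalization.Away.algebraMap_isUnit _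
          obtain ⟨u, hu⟩ := this
          obtain ⟨v, hv⟩ := hπs i (↑u⁻¹)
          obtain ⟨m', hm'⟩ := hk
          have h1 : IsNilpotent (algebraMap A (B' i) (a i) * v - 1) := by
            refine ⟨m', ?_⟩
            have : algebraMap A (B' i) (a i) * v - 1 ∈ RingHom.ker (π i).toRingHom := by
              rw [RingHom.mem_ker, map_sub, map_one, map_mul]
              simp [← hu, hv]
            have := Ideal.pow_mem_pow this m'
            rwa [hm'] at this
          have := h1.isUnit_add_one
          rw [sub_add_cancel] at this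
          exact isUnit_of_mul_isUnit_left this
        refine ⟨(↑(hub.pow p).unit⁻¹ : B' i) * b, Ideal.mul_mem_left _ _ hb, ?_⟩
        apply ((hu1 i).pow p).mul_left_cancel
        rw [← hsmul, ← hm, ← e, ← AlgHom.commutes (φ i), ← map_pow, ← map_mul, ← mul_assoc, IsUnit.mul_val_inv,
          one_mul]
      intro m
      induction m using TensorProduct.induction_on with
      | zero => exact ⟨0, zero_mem _, by simp⟩
      | add m m' h h' =>
        obtain ⟨b, hb, e⟩ := h
        obtain ⟨b', hb', e'⟩ := h'
        exact ⟨b + b', add_mem hb hb', by rw [map_add, map_add, KMod.val_add, e, e']⟩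
      | tmul r j =>
        obtain ⟨x, hx⟩ := d.surj (algebraMap R S r)
        obtain ⟨b, hb⟩ := hπs i (algebraMap R _ r)
        refine ⟨b * algebraMap A (B' i) j, Ideal.mul_mem_left _ _ (Ideal.mem_map_of_mem _ j.2), ?_⟩
        rw [KMod.val_gam_tmul r x hx, map_mul, AlgHom.commutes, ← sub_eq_zero, ← sub_mul]
        have h4 := hφ i b x r 0 (by rw [pow_zero, mul_one, hb]) hx
        rw [pow_zero, mul_one] at h4
        exact KMod.mul_eq_zero_of_mem d h4 (Ideal.mem_map_of_mem _ j.2)
    · rintro ⟨b, hb, e⟩
      have hmem : ∀ b ∈ J.map (algebraMap A (B' i)), ∃ hb' : φ i b ∈ J.map (algebraMap A (C1 i)),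
          (KMod.mk (φ i b) hb' : K1 i) ∈ N i := by
        intro b hb
        rw [Ideal.map, ← Ideal.submodule_span_eq] at hb
        induction hb using Submodule.span_induction with
        | mem y hy =>
          obtain ⟨j, hj, rfl⟩ := hy
          refine ⟨by rw [AlgHom.commutes]; exact Ideal.mem_map_of_mem _ hj, 0, (1 : R) ⊗ₜ (⟨j, hj⟩ : J), KMod.ext ?_⟩
          rw [pow_zero, one_smul, KMod.val_gam_tmul (1 : R) 1 (by rw [map_one, map_one]), map_one, one_mul,
            KMod.val_mk, AlgHom.commutes]
        | zero =>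
          refine ⟨by rw [map_zero]; exact zero_mem _, ?_⟩
          convert (N i).zero_mem
          exact KMod.ext (by simp)
        | add y y' _ _ hy hy' =>
          obtain ⟨h, hN'⟩ := hy
          obtain ⟨h', hN''⟩ := hy'
          refine ⟨by rw [map_add]; exact add_mem h h', ?_⟩
          convert add_mem hN' hN'' using 1
          exact KMod.ext (by simp)
        | smul c y _ hy =>
          obtain ⟨h, hN'⟩ := hy
          refine ⟨by rw [smul_eq_mul, map_mul]; exact Ideal.mul_mem_left _ _ h, ?_⟩
          obtain ⟨r, n, hr⟩ := exists_repr (π := π) i c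
          obtain ⟨x, hx⟩ := d.surj (algebraMap R S r)
          obtain ⟨p, m, hm⟩ := (N i).smul_mem r hN'
          refine ⟨p + n, m, KMod.ext ?_⟩
          rw [hm, hsmul, KMod.val_rsmul_eq r x hx, hsmul, KMod.val_mk, KMod.val_mk, smul_eq_mul, map_mul]
          have h5 := KMod.mul_eq_zero_of_mem d (hφ i c x r n hr hx) h
          rw [sub_mul, sub_eq_zero] at h5
          rw [← h5]
          ring
      obtain ⟨h', hN'⟩ := hmem b hb
      convert hN' using 1
      exact KMod.ext e.symm
  have hmemL : ∀ k : K, k ∈ glued l N ↔ k.val ∈ gluedAlg a φ := by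
    intro k
    rw [mem_glued, mem_gluedAlg]
    refine forall_congr' fun i => (hchar i _).trans ⟨?_, ?_⟩
    · rintro ⟨b, -, e⟩; exact ⟨b, e⟩
    · rintro ⟨b, e⟩
      refine ⟨b, hφJ i b ?_, e⟩
      rw [e]
      exact KMod.map_mem (f1 i) k.val_mem
  have hbij := glued_bijective l r1 r2 hl hr1 hr2 hcomp N hN N2 hN1 hN2 hsurj
  -- `R` is the gluing of the localisations
  have hRinj : ∀ r : R, algebraMap R S r = 0 → r = 0 := by
    intro r hr
    refine detect hsurj hinj r (fun i => ?_) ?_
    · obtain ⟨⟨_, hcm⟩, hc⟩ := (IsLocalization.map_eq_zero_iff (Submonoid.powers (algebraMap A R (a i)))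
        (Localization.Away (algebraMap A R (a i))) r).1 (hχ i r hr)
      obtain ⟨q, rfl⟩ := (Submonoid.mem_powers_iff _ _).1 hcm
      exact ⟨q, hc⟩
    · apply (TensorProduct.rid R S).injective
      rw [TensorProduct.rid_tmul, map_zero, Algebra.smul_def, hr, zero_mul]
  have hloc : ∀ i (x : X), algebraMap X (C1 i) x ∈ J.map (algebraMap A (C1 i)) →
      ∃ p : ℕ, algebraMap A S (a i) ^ p * d.q x = 0 := by
    intro i x hx
    rw [IsScalarTower.algebraMap_eq A X (C1 i), ← Ideal.map_map,
      IsLocalization.algebraMap_mem_map_algebraMap_iff (Submonoid.powers (algebraMap A X (a i)))] at hx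
    obtain ⟨_, hcm, hc⟩ := hx
    obtain ⟨p, rfl⟩ := (Submonoid.mem_powers_iff _ _).1 hcm
    exact ⟨p, by rw [← AlgHom.commutes d.q, ← map_pow, ← map_mul]; exact (d.ker _).2 hc⟩
  let LS : Submodule R S :=
    { carrier := {s | ∀ i, ∃ (p : ℕ) (r : R), algebraMap R S r = algebraMap A S (a i) ^ p * s}
      zero_mem' := fun i => ⟨0, 0, by simp⟩
      add_mem' := fun {s s'} hs hs' i => by
        obtain ⟨p, r, hr⟩ := hs i
        obtain ⟨p', r', hr'⟩ := hs' i
        refine ⟨p + p', algebraMap A R (a i) ^ p' * r + algebraMap A R (a i) ^ p * r', ?_⟩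
        rw [map_add, map_mul, map_mul, hr, hr', map_pow, map_pow, ← IsScalarTower.algebraMap_apply]
        ring
      smul_mem' := fun c s hs i => by
        obtain ⟨p, r, hr⟩ := hs i
        exact ⟨p, c * r, by rw [map_mul, hr, Algebra.smul_def]; ring⟩ }
  have hLSbij : ∀ z : S ⊗[R] LS, LS.subtype.liftBaseChange S z = 0 → z = 0 := by
    let S1 := fun i => Localization.Away (algebraMap R S (algebraMap A R (a i)))
    let S2 := fun i j => Localization.Away (algebraMap R S (algebraMap A R (a i) * algebraMap A R (a j)))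
    have hlS : ∀ i, IsLocalizedModule (Submonoid.powers (algebraMap A R (a i)))
        ((Algebra.linearMap S (S1 i)).restrictScalars R) := fun i => isLocalizedModule_away _
    have hlS2 : ∀ i j, IsLocalizedModule (Submonoid.powers (algebraMap A R (a i) * algebraMap A R (a j)))
        ((Algebra.linearMap S (S2 i j)).restrictScalars R) := fun i j => isLocalizedModule_away _
    have hu : ∀ i j, IsUnit (algebraMap S (S2 i j) (algebraMap R S (algebraMap A R (a i)))) ∧
        IsUnit (algebraMap S (S2 i j) (algebraMap R S (algebraMap A R (a j)))) := fun i j => by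
      have h : IsUnit (algebraMap S (S2 i j) (algebraMap R S (algebraMap A R (a i) * algebraMap A R (a j)))) :=
        IsLocalization.Away.algebraMap_isUnit _
      exact IsUnit.mul_iff.1 ((congrArg IsUnit
        ((congrArg (algebraMap S (S2 i j)) (map_mul (algebraMap R S) _ _)).trans (map_mul _ _ _))).mp h)
    let g1 : ∀ i j, S1 i →ₗ[S] S2 i j := fun i j =>
      ({ IsLocalization.Away.lift (S := S1 i) (algebraMap R S (algebraMap A R (a i))) (g := algebraMap S (S2 i j)) (hu i j).1 with
        commutes' := fun s => IsLocalization.Away.lift_eq _ _ s } : S1 i →ₐ[S] S2 i j).toLinearMap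
    let g2 : ∀ i j, S1 j →ₗ[S] S2 i j := fun i j =>
      ({ IsLocalization.Away.lift (S := S1 j) (algebraMap R S (algebraMap A R (a j))) (g := algebraMap S (S2 i j)) (hu i j).2 with
        commutes' := fun s => IsLocalization.Away.lift_eq _ _ s } : S1 j →ₐ[S] S2 i j).toLinearMap
    have hg1 : ∀ i j s, g1 i j (algebraMap S (S1 i) s) = algebraMap S (S2 i j) s :=
      fun i j s => IsLocalization.Away.lift_eq (algebraMap R S (algebraMap A R (a i))) (g := algebraMap S (S2 i j)) (hu i j).1 s
    have hg2 : ∀ i j s, g2 i j (algebraMap S (S1 j) s) = algebraMap S (S2 i j) s :=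
      fun i j s => IsLocalization.Away.lift_eq (algebraMap R S (algebraMap A R (a j))) (g := algebraMap S (S2 i j)) (hu i j).2 s
    have hgr1 : ∀ i j, IsLocalizedModule (Submonoid.powers (algebraMap A R (a j))) ((g1 i j).restrictScalars R) :=
      fun i j => by
        haveI := hlS i
        haveI := hlS2 i j
        exact isLocalizedModule_factor (algebraMap A R (a i)) _ ((Algebra.linearMap S (S1 i)).restrictScalars R)
          ((Algebra.linearMap S (S2 i j)).restrictScalars R) _ (hg1 i j)
    have hgr2 : ∀ i j, IsLocalizedModule (Submonoid.powers (algebraMap A R (a i))) ((g2 i j).restrictScalars R) :=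
      fun i j => by
        haveI := hlS j
        haveI : IsLocalizedModule (Submonoid.powers (algebraMap A R (a j) * algebraMap A R (a i)))
            ((Algebra.linearMap S (S2 i j)).restrictScalars R) := by rw [mul_comm (algebraMap A R (a j))]; exact hlS2 i j
        exact isLocalizedModule_factor (algebraMap A R (a j)) _ ((Algebra.linearMap S (S1 j)).restrictScalars R)
          ((Algebra.linearMap S (S2 i j)).restrictScalars R) _ (hg2 i j)
    let M1 : ∀ i, Submodule R (S1 i) := fun i => sat (algebraMap A R (a i)) (Algebra.linearMap R (S1 i))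
    let M2 : ∀ i j, Submodule R (S2 i j) := fun i j =>
      sat (algebraMap A R (a i) * algebraMap A R (a j)) (Algebra.linearMap R (S2 i j))
    have hM : ∀ i, Function.Bijective ((M1 i).subtype.liftBaseChange S) := fun i =>
      haveI := hlS i; sat_algebra_bijective _
    have hM1 : ∀ i j y, y ∈ M2 i j ↔ ∃ p : ℕ, ∃ n ∈ M1 i, g1 i j n = algebraMap A R (a j) ^ p • y := fun i j y =>
      haveI := hlS i; haveI := hlS2 i j
      mem_sat_iff _ _ ((g1 i j).restrictScalars R)
        (fun r => by
          simp only [LinearMap.restrictScalars_apply, Algebra.linearMap_apply]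
          rw [IsScalarTower.algebraMap_apply R S (S1 i), hg1, ← IsScalarTower.algebraMap_apply])
        (bijective_of_isLocalizedModule _ ((Algebra.linearMap S (S1 i)).restrictScalars R))
        (bijective_left_of_isLocalizedModule _ (algebraMap A R (a j)) ((Algebra.linearMap S (S2 i j)).restrictScalars R)) y
    have hM2 : ∀ i j y, y ∈ M2 i j ↔ ∃ p : ℕ, ∃ n ∈ M1 j, g2 i j n = algebraMap A R (a i) ^ p • y := fun i j y => by
      haveI := hlS j
      haveI := hlS2 i j
      show y ∈ sat (algebraMap A R (a i) * algebraMap A R (a j)) _ ↔ _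
      have hsc : ∀ (x z : R) (f : R →ₗ[R] S2 i j), sat (x * z) f = sat (z * x) f := fun x z f => by rw [mul_comm x z]
      rw [hsc]
      exact mem_sat_iff _ _ ((g2 i j).restrictScalars R)
        (fun r => by
          simp only [LinearMap.restrictScalars_apply, Algebra.linearMap_apply]
          rw [IsScalarTower.algebraMap_apply R S (S1 j), hg2, ← IsScalarTower.algebraMap_apply])
        (bijective_of_isLocalizedModule _ ((Algebra.linearMap S (S1 j)).restrictScalars R))
        (bijective_right_of_isLocalizedModule (algebraMap A R (a i)) _ ((Algebra.linearMap S (S2 i j)).restrictScalars R)) y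
    have hb := glued_bijective (fun i => Algebra.linearMap S (S1 i)) g1 g2 hlS hgr1 hgr2
      (fun i j s => (hg1 i j s).trans (hg2 i j s).symm) M1 hM M2 hM1 hM2 hsurj
    have heq : LS = glued (fun i => Algebra.linearMap S (S1 i)) M1 := by
      ext s
      rw [mem_glued]
      refine forall_congr' fun i => ⟨?_, ?_⟩
      · rintro ⟨p, r, hr⟩
        refine ⟨p, r, ?_⟩
        rw [Algebra.linearMap_apply, Algebra.linearMap_apply, IsScalarTower.algebraMap_apply R S (S1 i), hr,
          ← map_pow (algebraMap A R), algebraMap_smul, Algebra.smul_def, map_mul, IsScalarTower.algebraMap_apply A S (S1 i)]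
        simp only [map_pow]
      · rintro ⟨p, r, hr⟩
        rw [Algebra.linearMap_apply, Algebra.linearMap_apply, IsScalarTower.algebraMap_apply R S (S1 i),
          Algebra.smul_def, IsScalarTower.algebraMap_apply R S (S1 i), ← map_mul] at hr
        obtain ⟨q, hq⟩ := IsLocalization.Away.exists_of_eq (algebraMap R S (algebraMap A R (a i))) (S := S1 i) hr
        refine ⟨q + p, algebraMap A R (a i) ^ q * r, ?_⟩
        rw [map_mul, map_pow, hq, map_pow, ← IsScalarTower.algebraMap_apply]
        ring
    rw [heq]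
    exact fun z hz => hb.1 (by rw [hz, map_zero])
  -- exactness
  have hRsurj : ∀ s ∈ LS, ∃ r : R, algebraMap R S r = s := by
    intro s hs
    let T := LS ⧸ (LinearMap.range (Algebra.linearMap R S)).comap LS.subtype
    let one : LS := ⟨1, show ∀ i, ∃ (p : ℕ) (r : R), algebraMap R S r = algebraMap A S (a i) ^ p * 1 from fun i => ⟨0, 1, by simp⟩⟩
    have h1 : (1 : S) ⊗ₜ[R] (⟨s, hs⟩ : LS) = s ⊗ₜ[R] one := by
      rw [← sub_eq_zero]
      refine hLSbij _ ?_
      simp [one]
    have h2 : (Submodule.Quotient.mk (⟨s, hs⟩ : LS) : T) = 0 := by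
      refine detect hsurj hinj _ (fun i => ?_) ?_
      · obtain ⟨p, r, hr⟩ := hs i
        refine ⟨p, ?_⟩
        rw [← Submodule.Quotient.mk_smul, Submodule.Quotient.mk_eq_zero]
        refine ⟨r, ?_⟩
        show algebraMap R S r = algebraMap A R (a i) ^ p • s
        rw [hr, Algebra.smul_def, map_pow, ← IsScalarTower.algebraMap_apply]
      · have h3 := congrArg (((LinearMap.range (Algebra.linearMap R S)).comap LS.subtype).mkQ.lTensor S) h1
        rw [LinearMap.lTensor_tmul, LinearMap.lTensor_tmul, Submodule.mkQ_apply, Submodule.mkQ_apply] at h3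
        rw [h3, (Submodule.Quotient.mk_eq_zero _).2 (Submodule.mem_comap.2 (LinearMap.mem_range.2 ⟨1, by simp [one]⟩)), tmul_zero]
    obtain ⟨r, hr⟩ := (Submodule.Quotient.mk_eq_zero _).1 h2
    exact ⟨r, hr⟩
  have hex : ∀ c ∈ gluedAlg a φ, ∃ r : R, algebraMap R S r = d.q c := by
    intro c hc
    refine hRsurj _ fun i => ?_
    obtain ⟨b, hb⟩ := (mem_gluedAlg a φ).1 hc i
    obtain ⟨r, n, hr⟩ := exists_repr (π := π) i b
    obtain ⟨x, hx⟩ := d.surj (algebraMap R S r)
    have h1 := hφ i b x r n hr hx
    rw [hb, IsScalarTower.algebraMap_apply A X (C1 i), IsScalarTower.toAlgHom_apply, ← map_pow, ← map_mul,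
      ← map_sub] at h1
    obtain ⟨p, hp⟩ := hloc i _ h1
    refine ⟨p + n, algebraMap A R (a i) ^ p * r, ?_⟩
    rw [map_sub, mul_sub, sub_eq_zero, map_mul, map_pow, AlgHom.commutes, hx] at hp
    rw [map_mul, map_pow, ← IsScalarTower.algebraMap_apply, ← hp]
    ring
  have huniq : ∀ r r' : R, algebraMap R S r = algebraMap R S r' → r = r' := fun r r' h =>
    sub_eq_zero.1 (hRinj _ (by rw [map_sub, h, sub_self]))
  have hsur : ∀ r : R, ∃ c ∈ gluedAlg a φ, d.q c = algebraMap R S r := by
    intro r
    obtain ⟨x, hx⟩ := d.surj (algebraMap R S r)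
    choose b hb using fun i => hπs i (algebraMap R _ r)
    have hmem : ∀ i, φ i (b i) - algebraMap X (C1 i) x ∈ J.map (algebraMap A (C1 i)) := fun i => by
      have := hφ i (b i) x r 0 (by rw [pow_zero, mul_one, hb]) hx
      rwa [pow_zero, mul_one] at this
    let y : ∀ i, K1 i := fun i => KMod.mk _ (hmem i)
    have hy : ∀ i j, r1 i j (y i) - r2 i j (y j) ∈ N2 i j := by
      intro i j
      obtain ⟨p, b', hb'⟩ := hov1 i j (b j)
      have h1 : res1 i j (φ i (algebraMap A (B' i) (a j) ^ p * b i - b')) =
          algebraMap A (C2 i j) (a j) ^ p * (r1 i j (y i) - r2 i j (y j)).val := by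
        have e1 : res1 i j (algebraMap A (C1 i) (a j)) = algebraMap A (C2 i j) (a j) := AlgHom.commutes _ _
        rw [map_sub (φ i), map_sub (res1 i j), hb', map_mul (φ i), map_pow (φ i), AlgHom.commutes,
          map_mul (res1 i j), map_pow (res1 i j), e1]
        show _ = _ * (res1 i j (φ i (b i) - algebraMap X (C1 i) x) - res2 i j (φ j (b j) - algebraMap X (C1 j) x))
        rw [map_sub (res1 i j), map_sub (res2 i j), hres1', hres2']
        ring
      have h2 : res1 i j (φ i (algebraMap A (B' i) (a j) ^ p * b i - b')) ∈ J.map (algebraMap A (C2 i j)) := by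
        rw [h1]; exact Ideal.mul_mem_left _ _ (r1 i j (y i) - r2 i j (y j)).val_mem
      haveI := hr1 i j
      obtain ⟨⟨k, ⟨_, q, rfl⟩⟩, hk⟩ := IsLocalizedModule.surj (Submonoid.powers (algebraMap A R (a j)))
        ((r1 i j).restrictScalars R) (KMod.mk _ h2 : K2 i j)
      have hk' : (algebraMap A R (a j) ^ q • (KMod.mk _ h2 : K2 i j)).val = res1 i j k.val := congrArg KMod.val hk
      rw [← map_pow, KMod.val_algebraMap_smul, map_pow, KMod.val_mk, ← AlgHom.commutes (res1 i j), ← map_pow,
        ← map_mul, ← sub_eq_zero, ← map_sub] at hk'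
      obtain ⟨t, ht⟩ := hkill i j _ hk'
      rw [mul_sub, sub_eq_zero, ← AlgHom.commutes (φ i), ← map_pow, ← map_pow (φ i), ← map_mul, ← map_mul] at ht
      have hb'' := hφJ i _ (by rw [ht]; exact Ideal.mul_mem_left _ _ k.val_mem)
      refine (hN1 i j _).2 ⟨t + (q + p), KMod.mk _ (KMod.map_mem (φ i) hb''), (hchar i _).2 ⟨_, hb'', rfl⟩, KMod.ext ?_⟩
      rw [← map_pow (algebraMap A R), KMod.val_algebraMap_smul, map_pow (algebraMap A (C2 i j))]
      show res1 i j (φ i _) = _
      simp only [map_mul, map_pow, AlgHom.commutes, h1]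
      rw [show res1 i j (algebraMap A (Localization.Away (algebraMap A X (a i))) (a j)) =
        algebraMap A (C2 i j) (a j) from AlgHom.commutes _ _]
      ring
    obtain ⟨m, hm⟩ := exists_global l r1 r2 hl hr1 hr2 hcomp N hN N2 hN1 hN2 hsurj hinj y hy
    refine ⟨x + m.val, (mem_gluedAlg a φ).2 fun i => ?_, ?_⟩
    · obtain ⟨b', -, e⟩ := (hchar i _).1 (hm i)
      refine ⟨b i + b', ?_⟩
      have e' : φ i b' = algebraMap X (C1 i) m.val - (φ i (b i) - algebraMap X (C1 i) x) := e
      rw [map_add, e', map_add]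
      ring
    · rw [map_add, (d.ker _).2 m.val_mem, add_zero, hx]
  refine ⟨fun c hc => ?_, hsur, ?_, ?_, fun z hz => hbij.1 (by rw [hz, map_zero]), hmemL⟩
  · obtain ⟨r, hr⟩ := hex c hc
    exact ⟨r, hr, fun r' hr' => huniq _ _ (hr'.trans hr.symm)⟩
  · -- kernel
    intro c hc
    let γ : R ⊗[A] J →ₗ[R] K := KMod.gam R d (AlgHom.id A X)
    have hγmem : ∀ m, γ m ∈ glued l N := fun m => (mem_glued l N).2 fun i =>
      ⟨0, m, by rw [pow_zero, one_smul]; exact (KMod.gam_natural (f1 i) (AlgHom.comp_id _) m).symm⟩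
    let γ' : R ⊗[A] J →ₗ[R] glued l N := LinearMap.codRestrict _ γ hγmem
    let T := glued l N ⧸ LinearMap.range γ'
    let k : K := KMod.mk (c : X) ((d.ker _).1 hc)
    let k' : glued l N := ⟨k, (hmemL k).2 c.2⟩
    have h2 : (Submodule.Quotient.mk k' : T) = 0 := by
      refine detect hsurj hinj _ (fun i => ?_) ?_
      · haveI := hl i
        obtain ⟨p, m, hm⟩ := (mem_glued l N).1 k'.2 i
        obtain ⟨⟨_, hcm⟩, hq⟩ := (IsLocalizedModule.eq_zero_iff (Submonoid.powers (algebraMap A R (a i)))
          ((l i).restrictScalars R)).1 (show (l i).restrictScalars R (algebraMap A R (a i) ^ p • k - γ m) = 0 by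
            rw [map_sub, map_smul]
            show _ - (l i).restrictScalars R (KMod.gam R d (AlgHom.id A X) m) = 0
            rw [KMod.gam_natural (f1 i) (AlgHom.comp_id _) m, sub_eq_zero]
            exact hm.symm)
        obtain ⟨q, rfl⟩ := (Submonoid.mem_powers_iff _ _).1 hcm
        refine ⟨q + p, ?_⟩
        rw [← Submodule.Quotient.mk_smul, Submodule.Quotient.mk_eq_zero]
        refine ⟨algebraMap A R (a i) ^ q • m, Subtype.ext ?_⟩
        show γ (algebraMap A R (a i) ^ q • m) = algebraMap A R (a i) ^ (q + p) • k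
        have hq' : algebraMap A R (a i) ^ q • (algebraMap A R (a i) ^ p • k - γ m) = 0 := hq
        rw [smul_sub, sub_eq_zero, smul_smul, ← pow_add] at hq'
        rw [map_smul, hq']
      · suffices H : ∀ y ∈ J.map (algebraMap A X), ∃ z : S ⊗[R] (R ⊗[A] J),
            ((glued l N).subtype.liftBaseChange S (γ'.lTensor S z)).val = y by
          obtain ⟨z, hz⟩ := H (c : X) ((d.ker _).1 hc)
          have h1 : (1 : S) ⊗ₜ[R] k' = γ'.lTensor S z := hbij.1 (KMod.ext (by
            rw [LinearMap.liftBaseChange_tmul, one_smul, hz]; rfl))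
          have h3 := congrArg ((LinearMap.range γ').mkQ.lTensor S) h1
          rw [LinearMap.lTensor_tmul, ← LinearMap.lTensor_comp_apply, LinearMap.range_mkQ_comp,
            LinearMap.lTensor_zero, LinearMap.zero_apply, Submodule.mkQ_apply] at h3
          exact h3
        intro y hy
        rw [Ideal.map, ← Ideal.submodule_span_eq] at hy
        induction hy using Submodule.span_induction with
        | mem y hy =>
          obtain ⟨j, hj, rfl⟩ := hy
          refine ⟨(1 : S) ⊗ₜ ((1 : R) ⊗ₜ (⟨j, hj⟩ : J)), ?_⟩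
          rw [LinearMap.lTensor_tmul, LinearMap.liftBaseChange_tmul, one_smul]
          show (KMod.gam R d (AlgHom.id A X) _).val = _
          rw [KMod.val_gam_tmul (1 : R) 1 (by rw [map_one, map_one]), map_one, one_mul]
        | zero => exact ⟨0, by simp⟩
        | add y y' _ _ hy hy' =>
          obtain ⟨z, hz⟩ := hy
          obtain ⟨z', hz'⟩ := hy'
          exact ⟨z + z', by rw [map_add, map_add, KMod.val_add, hz, hz']⟩
        | smul x y _ hy =>
          obtain ⟨z, hz⟩ := hy
          refine ⟨d.q x • z, ?_⟩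
          have : ∀ z, γ'.lTensor S (d.q x • z) = d.q x • γ'.lTensor S z := fun z => by
            induction z using TensorProduct.induction_on with
            | zero => simp
            | add z z' h h' => rw [smul_add, map_add, map_add, smul_add, h, h']
            | tmul s m => rw [smul_tmul', LinearMap.lTensor_tmul, LinearMap.lTensor_tmul, smul_tmul']
          rw [this, map_smul, KMod.val_smul_eq (d.q x) x rfl, hz]
          rfl
    obtain ⟨m, hm⟩ := (Submodule.Quotient.mk_eq_zero _).1 h2
    suffices H : ∀ m : R ⊗[A] J, ∃ c' : gluedAlg a φ, c' ∈ J.map (algebraMap A (gluedAlg a φ)) ∧ (c' : X) = (γ m).val by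
      obtain ⟨c', hc', e⟩ := H m
      have : c' = c := Subtype.ext (by
        rw [e]
        exact congrArg KMod.val (congrArg Subtype.val hm))
      rwa [this] at hc'
    intro m
    induction m using TensorProduct.induction_on with
    | zero => exact ⟨0, zero_mem _, by simp⟩
    | add m m' h h' =>
      obtain ⟨c₁, hc₁, e₁⟩ := h
      obtain ⟨c₂, hc₂, e₂⟩ := h'
      exact ⟨c₁ + c₂, add_mem hc₁ hc₂, by rw [map_add, KMod.val_add, Subalgebra.coe_add, e₁, e₂]⟩
    | tmul r j =>
      obtain ⟨x, hxB, hx⟩ := hsur r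
      refine ⟨⟨x, hxB⟩ * algebraMap A _ (j : A), Ideal.mul_mem_left _ _ (Ideal.mem_map_of_mem _ j.2), ?_⟩
      rw [Subalgebra.coe_mul, Subalgebra.coe_algebraMap, KMod.val_gam_tmul r x hx]
      rfl
  · -- lifting
    intro i b
    obtain ⟨n, x, hx⟩ := IsLocalization.Away.surj (algebraMap A X (a i)) (φ i b)
    rw [← IsScalarTower.algebraMap_apply] at hx
    have h1 : ∀ j, ∃ q : ℕ, ∃ b'' : B' j, φ j b'' = algebraMap A (C1 j) (a i) ^ q * algebraMap X (C1 j) x := by
      intro j
      obtain ⟨p, b', hb'⟩ := hov1 j i (b * algebraMap A (B' i) (a i) ^ n)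
      rw [map_mul (φ i), map_pow, AlgHom.commutes, hx, hres2', ← hres1', ← AlgHom.commutes (res1 j i),
        ← map_pow (res1 j i), ← map_mul (res1 j i), ← sub_eq_zero, ← map_sub] at hb'
      obtain ⟨t, ht⟩ := hkill j i _ hb'
      refine ⟨t + p, algebraMap A (B' j) (a i) ^ t * b', ?_⟩
      rw [map_mul, map_pow, AlgHom.commutes]
      rw [mul_sub, sub_eq_zero] at ht
      rw [ht, pow_add, mul_assoc]
    choose q b'' hb'' using h1
    refine ⟨(∑ j, q j) + n, algebraMap A X (a i) ^ (∑ j, q j) * x, (mem_gluedAlg a φ).2 fun j => ?_, ?_⟩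
    · obtain ⟨e, he⟩ := Nat.exists_eq_add_of_le (Finset.single_le_sum (fun j _ => Nat.zero_le (q j)) (Finset.mem_univ j))
      refine ⟨algebraMap A (B' j) (a i) ^ e * b'' j, ?_⟩
      rw [map_mul, map_pow, AlgHom.commutes, hb'', map_mul, map_pow, ← IsScalarTower.algebraMap_apply, he, pow_add]
      ring
    · rw [map_mul, map_pow, ← IsScalarTower.algebraMap_apply, ← hx, pow_add]
      ring

end Groth.Agent.EtaleGlueLib
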