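import Mathlib
import Groth.Agent.Hensel.FiniteEtale
import Groth.Agent.SchFinLib.EtRing
import Groth.Agent.EtaleGlueLib.Glued

/-!
Étale algebras glued from an étale neighbourhood of `V(I)` and the complement lift along square zero
ideals.
-/

set_option autoImplicit false
set_option linter.all false
set_option backward.isDefEq.respectTransparency.types false

universe u

namespace Groth.Agent.EtaleGlueLib

open TensorProduct

theorem isUnit_of_mem_nilpotent {B R : Type u} [CommRing B] [CommRing R] (π : B →+* R)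
    (hπ : Function.Surjective π) (hk : IsNilpotent (RingHom.ker π)) {b : B} (hb : IsUnit (π b)) : IsUnit b := by
  obtain ⟨u, hu⟩ := hb
  obtain ⟨v, hv⟩ := hπ ↑u⁻¹
  obtain ⟨m, hm⟩ := hk
  have h1 : IsNilpotent (b * v - 1) := by
    refine ⟨m, ?_⟩
    have : b * v - 1 ∈ RingHom.ker π := by
      rw [RingHom.mem_ker, map_sub, map_one, map_mul, ← hu, hv, Units.mul_inv, sub_self]
    have := Ideal.pow_mem_pow this m
    rwa [hm] at this
  have := h1.isUnit_add_one
  rw [sub_add_cancel] at this
  exact isUnit_of_mul_isUnit_left this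

theorem mem_map_of_linearMap {A Z X : Type u} [CommRing A] [CommRing Z] [CommRing X] [Algebra A Z] [Algebra A X]
    (J : Ideal A) (F : Z →ₗ[A] X) {z : Z} (hz : z ∈ J.map (algebraMap A Z)) : F z ∈ J.map (algebraMap A X) := by
  rw [← Submodule.restrictScalars_mem A, ← Ideal.smul_top_eq_map] at hz ⊢
  have := Submodule.mem_map_of_mem (f := F) hz
  rw [Submodule.map_smul''] at this
  exact Submodule.smul_mono le_rfl le_top this

set_option maxHeartbeats 1600000 in
/-- A square zero thickening glued from an étale algebra is étale. -/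
theorem etale_of_square {A B R X S : Type u} [CommRing A] [CommRing B] [CommRing R] [CommRing X] [CommRing S]
    [Algebra A B] [Algebra A R] [Algebra A X] [Algebra A S] [Algebra R S] [IsScalarTower A R S] [Algebra B X]
    [IsScalarTower A B X] [Algebra.Etale R S] {J : Ideal A} (d : SqData J X S) (p : B →ₐ[A] R)
    (hps : Function.Surjective p) (hker : ∀ b, p b = 0 → b ∈ J.map (algebraMap A B))
    (hker' : ∀ b ∈ J.map (algebraMap A B), p b = 0)
    (hp : ∀ b, d.q (algebraMap B X b) = algebraMap R S (p b))
    (hBinj : Function.Injective (algebraMap B X)) (hRS : Function.Injective (algebraMap R S))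
    (L : Submodule R (KMod d (AlgHom.id A X))) (hmemL : ∀ k, k ∈ L ↔ k.val ∈ Set.range (algebraMap B X))
    (hbij : ∀ z : S ⊗[R] L, L.subtype.liftBaseChange S z = 0 → z = 0) : Algebra.Etale B X := by
  classical
  letI : Algebra B S := ((algebraMap R S).comp p.toRingHom).toAlgebra
  let eR : B ⧸ J.map (algebraMap A B) →+* R := Ideal.Quotient.lift _ p.toRingHom fun b hb => hker' b hb
  letI : Algebra (B ⧸ J.map (algebraMap A B)) S := ((algebraMap R S).comp eR).toAlgebra
  haveI : IsScalarTower B (B ⧸ J.map (algebraMap A B)) S := .of_algebraMap_eq fun b => rfl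
  haveI : Algebra.Etale (B ⧸ J.map (algebraMap A B)) S := by
    rw [← RingHom.etale_algebraMap]
    refine RingHom.Etale.stableUnderComposition eR _ (RingHom.Etale.of_bijective ⟨?_, ?_⟩)
      (RingHom.etale_algebraMap.2 inferInstance)
    · rw [injective_iff_map_eq_zero]
      intro x hx
      obtain ⟨x, rfl⟩ := Ideal.Quotient.mk_surjective x
      exact Ideal.Quotient.eq_zero_iff_mem.2 (hker x hx)
    · intro x
      obtain ⟨b, hb⟩ := hps x
      exact ⟨Ideal.Quotient.mk _ b, hb⟩
  obtain ⟨E, iE, aE, eE, Φ, hΦs, hΦk⟩ := Groth.Agent.Hensel.exists_etale_lift_of_quotient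
    (I := J.map (algebraMap A B)) S
  letI : Algebra A E := ((algebraMap B E).comp (algebraMap A B)).toAlgebra
  haveI : IsScalarTower A B E := .of_algebraMap_eq fun _ => rfl
  have hΦk' : ∀ e, Φ e = 0 ↔ e ∈ J.map (algebraMap A E) := fun e => by
    rw [IsScalarTower.algebraMap_eq A B E, ← Ideal.map_map, ← hΦk]; rfl
  let qB : X →ₐ[B] S := { d.q.toRingHom with commutes' := hp }
  have hqBnil : IsNilpotent (RingHom.ker (qB : X →+* S)) := by
    rw [show RingHom.ker (qB : X →+* S) = J.map (algebraMap A X) from Ideal.ext fun x => d.ker x]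
    exact isNilpotent_map d
  let h := Algebra.FormallySmooth.liftOfSurjective Φ qB d.surj hqBnil
  have hh : ∀ e, d.q (h e) = Φ e := Algebra.FormallySmooth.liftOfSurjective_apply Φ qB d.surj hqBnil
  have hjE : ∀ j, h (algebraMap B E (algebraMap A B j)) = algebraMap A X j := fun j => by
    rw [AlgHom.commutes, ← IsScalarTower.algebraMap_apply]
  have hhs : Function.Surjective h := by
    have hJX : ∀ y ∈ J.map (algebraMap A X), ∃ e, h e = y := by
      intro y hy
      have hy' : y ∈ Submodule.span X (algebraMap A X '' J) := hy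
      clear hy
      induction hy' using Submodule.span_induction with
      | mem y hy' =>
        obtain ⟨j, hj, rfl⟩ := hy'
        exact ⟨algebraMap B E (algebraMap A B j), hjE j⟩
      | zero => exact ⟨0, map_zero h⟩
      | add y y' hy₁ hy₂ hy hy' =>
        obtain ⟨e, he⟩ := hy
        obtain ⟨e', he'⟩ := hy'
        exact ⟨e + e', by rw [map_add, he, he']⟩
      | smul x y hy₁ hy =>
        obtain ⟨e, he⟩ := hy
        obtain ⟨e', he'⟩ := hΦs (d.q x)
        refine ⟨e' * e, ?_⟩
        rw [map_mul, he, smul_eq_mul, ← sub_eq_zero, ← sub_mul]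
        exact KMod.mul_eq_zero_of_mem d ((d.ker _).1 (by rw [map_sub, hh, he', sub_self])) hy₁
    intro x
    obtain ⟨e', he'⟩ := hΦs (d.q x)
    obtain ⟨e, he⟩ := hJX (x - h e') ((d.ker _).1 (by rw [map_sub, hh, he', sub_self]))
    exact ⟨e + e', by rw [map_add, he, sub_add_cancel]⟩
  have hhi : Function.Injective h := by
    let σ := Function.surjInv hΦs
    have hσ : ∀ s, Φ (σ s) = s := Function.surjInv_eq hΦs
    choose toB htoB using fun k : L => (hmemL k.1).1 k.2
    have hBJ : ∀ k, algebraMap B E (toB k) ∈ J.map (algebraMap A E) := fun k =>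
      KMod.map_mem (IsScalarTower.toAlgHom A B E) (hker (toB k) (hRS (by rw [← hp, htoB, map_zero]; exact (d.ker _).2 k.1.val_mem)))
    have key : ∀ e e' k, Φ e = Φ e' → e * algebraMap B E (toB k) = e' * algebraMap B E (toB k) := fun e e' k he => by
      rw [← sub_eq_zero, ← sub_mul]
      exact KMod.mul_eq_zero_of_mem d ((hΦk' _).1 (by rw [map_sub, he, sub_self])) (hBJ k)
    let f : _ →+ (L →+ E) :=
      AddMonoidHom.mk' (fun s => AddMonoidHom.mk' (fun k => σ s * algebraMap B E (toB k)) fun k k' => by
          rw [show toB (k + k') = toB k + toB k' from hBinj (by rw [map_add, htoB, htoB, htoB]; rfl), map_add, mul_add])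
        fun s t => AddMonoidHom.ext fun k => by
          show σ (s + t) * _ = σ s * _ + σ t * _
          rw [← add_mul]
          exact key _ _ k (by rw [map_add, hσ, hσ, hσ])
    have hf : ∀ (c : R) s k, f (c • s) k = f s (c • k) := by
      intro c s k
      obtain ⟨b, hb⟩ := hps c
      show σ (c • s) * _ = σ s * _
      rw [show toB (c • k) = b * toB k from hBinj (by rw [map_mul, htoB, htoB]; exact KMod.val_rsmul_eq c (algebraMap B X b) (by rw [hp, hb]) k.1),
        map_mul, ← mul_assoc]
      refine key _ _ k ?_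
      rw [map_mul, hσ, hσ, AlgHom.commutes, Algebra.smul_def, mul_comm, show algebraMap B _ b = algebraMap R _ (p b) from rfl, hb]
    let ζ := TensorProduct.liftAddHom f hf
    have hζ : ∀ s k, ζ (s ⊗ₜ k) = σ s * algebraMap B E (toB k) := fun s k => rfl
    rw [injective_iff_map_eq_zero]
    intro e he
    have heJ : e ∈ J.map (algebraMap A E) := (hΦk' e).1 (by rw [← hh, he, map_zero])
    suffices H : ∀ e ∈ J.map (algebraMap A E), ∃ z, ζ z = e ∧ (L.subtype.liftBaseChange _ z).val = h e by
      obtain ⟨z, hz, hz'⟩ := H e heJ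
      rw [← hz, hbij z (KMod.ext (hz'.trans he)), map_zero]
    intro y hy
    rw [Ideal.map, ← Ideal.submodule_span_eq] at hy
    induction hy using Submodule.span_induction with
    | mem y hy =>
      obtain ⟨j, hj, rfl⟩ := hy
      refine ⟨1 ⊗ₜ ⟨KMod.mk (algebraMap A X j) (Ideal.mem_map_of_mem _ hj),
        (hmemL _).2 ⟨algebraMap A B j, (IsScalarTower.algebraMap_apply A B X j).symm⟩⟩, ?_, ?_⟩
      · rw [hζ, key (σ 1) 1 _ (by rw [hσ, map_one]), one_mul]
        rw [IsScalarTower.algebraMap_apply A B E]
        congr 1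
        refine hBinj ?_
        rw [htoB]
        exact IsScalarTower.algebraMap_apply A B X j
      · rw [LinearMap.liftBaseChange_tmul, one_smul, IsScalarTower.algebraMap_apply A B E, hjE]
        rfl
    | zero => exact ⟨0, map_zero _, by rw [map_zero, map_zero]; rfl⟩
    | add y y' _ _ hy hy' =>
      obtain ⟨z, h1, h1'⟩ := hy
      obtain ⟨z', h2, h2'⟩ := hy'
      exact ⟨z + z', by rw [map_add, h1, h2], by rw [map_add, map_add, KMod.val_add, h1', h2']⟩
    | smul e' y _ hy =>
      obtain ⟨z, h1, h1'⟩ := hy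
      refine ⟨Φ e' • z, ?_, ?_⟩
      · have : ∀ z, ζ (Φ e' • z) = e' * ζ z := fun z => by
          induction z using TensorProduct.induction_on with
          | zero => simp
          | add z z' hz hz' => rw [smul_add, map_add, map_add, hz, hz', mul_add]
          | tmul s k =>
            rw [smul_tmul', hζ, hζ, ← mul_assoc]
            exact key _ _ k (by rw [map_mul, hσ, hσ, smul_eq_mul])
        rw [this, h1, smul_eq_mul]
      · rw [map_smul, KMod.val_smul_eq (Φ e') (h e') (hh e'), h1', smul_eq_mul, map_mul]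
        rfl
  exact Algebra.Etale.of_equiv (AlgEquiv.ofBijective h ⟨hhi, hhs⟩)

set_option maxHeartbeats 1600000 in
theorem exists_lift_sq_zero {A : Type u} [CommRing A] (J : Ideal A) (hJ : J ^ 2 = ⊥) {n : ℕ} (a : Fin n → A)
    (C : Type u) [CommRing C] [Algebra A C]
    (hC : ∀ i, Algebra.Etale A (Localization.Away (algebraMap A C (a i))))
    (R : Type u) [CommRing R] [Algebra A R] [Algebra.FiniteType A R] [Algebra (A ⧸ J) R] [IsScalarTower A (A ⧸ J) R]
    (hR : ∀ i, Algebra.Etale (A ⧸ J) (Localization.Away (algebraMap A R (a i))))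
    (τ : R →ₐ[A] C ⧸ J.map (algebraMap A C)) (hτ : τ.toRingHom.Etale)
    (h3 : (∀ c, ∃ b : R, τ b - c ∈ (Ideal.span (Set.range a)).map (algebraMap A (C ⧸ J.map (algebraMap A C)))) ∧
      ∀ b : R, τ b ∈ (Ideal.span (Set.range a)).map (algebraMap A (C ⧸ J.map (algebraMap A C))) →
        b ∈ (Ideal.span (Set.range a)).map (algebraMap A R)) :
    ∃ (B : Type u) (_ : CommRing B) (_ : Algebra A B) (g : B →ₐ[A] C) (p : B →ₐ[A] R),
      Algebra.FiniteType A B ∧ g.toRingHom.Etale ∧
      (∀ i, Algebra.Etale A (Localization.Away (algebraMap A B (a i)))) ∧ Function.Surjective p ∧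
      (∀ b, p b = 0 ↔ b ∈ J.map (algebraMap A B)) ∧
      ∀ b, τ (p b) = Ideal.Quotient.mk (J.map (algebraMap A C)) (g b) := by
  classical
  haveI := hR
  choose B' iB aB eB π hπs hπker using fun i =>
    Groth.Agent.Hensel.exists_etale_lift_of_quotient (I := J) (Localization.Away (algebraMap A R (a i)))
  have hπk : ∀ i b, π i b = 0 ↔ b ∈ J.map (algebraMap A (B' i)) := fun i b => by rw [← hπker i]; rfl
  letI : Algebra R (C ⧸ J.map (algebraMap A C)) := τ.toRingHom.toAlgebra
  haveI : IsScalarTower A R (C ⧸ J.map (algebraMap A C)) := .of_algebraMap_eq fun x => (τ.commutes x).symm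
  haveI : Algebra.Etale R (C ⧸ J.map (algebraMap A C)) := hτ
  haveI : ∀ i, Algebra.Etale R (Localization.Away (algebraMap A R (a i))) := fun i =>
    Algebra.Etale.of_isLocalizationAway (algebraMap A R (a i))
  haveI : Algebra.Etale R ((C ⧸ J.map (algebraMap A C)) × (∀ i, Localization.Away (algebraMap A R (a i)))) :=
    Groth.Agent.SchFinLib.etale_prod
  let q : (C × ∀ i, B' i) →ₐ[A] (C ⧸ J.map (algebraMap A C)) × (∀ i, Localization.Away (algebraMap A R (a i))) :=
    ((Ideal.Quotient.mkₐ A _).comp (AlgHom.fst A C (∀ i, B' i))).prod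
      (Pi.algHom A _ fun i => (π i).comp ((Pi.evalAlgHom A B' i).comp (AlgHom.snd A C (∀ i, B' i))))
  have hq1 : ∀ x, (q x).1 = Ideal.Quotient.mk _ x.1 := fun x => rfl
  have hq2 : ∀ x i, (q x).2 i = π i (x.2 i) := fun x i => rfl
  have hqs : Function.Surjective q := by
    rintro ⟨c, f⟩
    obtain ⟨c, rfl⟩ := Ideal.Quotient.mk_surjective c
    choose b hb using fun i => hπs i (f i)
    exact ⟨(c, b), Prod.ext rfl (funext hb)⟩
  have hqk : ∀ x, q x = 0 ↔ x ∈ J.map (algebraMap A (C × ∀ i, B' i)) := by
    intro x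
    constructor
    · intro h
      have e : x = LinearMap.inl A C (∀ i, B' i) x.1 +
          ∑ i, (LinearMap.inr A C (∀ i, B' i)).comp (LinearMap.single A B' i) (x.2 i) := by
        simp only [LinearMap.comp_apply, ← map_sum, LinearMap.single_apply, Finset.univ_sum_single]
        simp
      rw [e]
      refine add_mem (mem_map_of_linearMap J _ ?_) (sum_mem fun i _ => mem_map_of_linearMap J _ ?_)
      · exact Ideal.Quotient.eq_zero_iff_mem.1 (congrArg Prod.fst h)
      · exact (hπk i _).1 (congrFun (congrArg Prod.snd h) i)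
    · intro h
      refine Prod.ext ?_ (funext fun i => ?_)
      · exact Ideal.Quotient.eq_zero_iff_mem.2 (mem_map_of_linearMap J (LinearMap.fst A C (∀ i, B' i)) h)
      · exact (hπk i _).2 (mem_map_of_linearMap J
          ((LinearMap.proj i).comp (LinearMap.snd A C (∀ i, B' i))) h)
  let d : SqData J (C × ∀ i, B' i) ((C ⧸ J.map (algebraMap A C)) × (∀ i, Localization.Away (algebraMap A R (a i)))) :=
    ⟨q, hqs, hqk, hJ⟩
  have hspan : Ideal.span (Set.range fun i => algebraMap A R (a i)) =
      (Ideal.span (Set.range a)).map (algebraMap A R) := by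
    rw [Ideal.map_span, ← Set.range_comp]; rfl
  have hunit : ∀ i, IsUnit (algebraMap A (B' i) (a i)) := fun i =>
    isUnit_of_mem_nilpotent (π i).toRingHom (hπs i)
      (by rw [show RingHom.ker (π i).toRingHom = J.map (algebraMap A (B' i)) from hπker i]; exact isNilpotent_map d)
      (by
        show IsUnit (π i (algebraMap A (B' i) (a i)))
        rw [AlgHom.commutes, IsScalarTower.algebraMap_apply A R (Localization.Away (algebraMap A R (a i)))]
        exact IsLocalization.Away.algebraMap_isUnit _)
  have hsurj : ∀ s, ∃ r, s - algebraMap R _ r ∈ (Ideal.span (Set.range fun i => algebraMap A R (a i))).map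
      (algebraMap R ((C ⧸ J.map (algebraMap A C)) × (∀ i, Localization.Away (algebraMap A R (a i))))) := by
    rintro ⟨c, f⟩
    obtain ⟨b, hb⟩ := h3.1 c
    refine ⟨b, ?_⟩
    rw [hspan, Ideal.map_map, ← IsScalarTower.algebraMap_eq]
    have e : (c, f) - algebraMap R ((C ⧸ J.map (algebraMap A C)) × (∀ i, Localization.Away (algebraMap A R (a i)))) b =
        LinearMap.inl A _ (∀ i, Localization.Away (algebraMap A R (a i))) (c - τ b) +
        ∑ i, (LinearMap.inr A (C ⧸ J.map (algebraMap A C)) _).comp
          (LinearMap.single A (fun i => Localization.Away (algebraMap A R (a i))) i) (f i - algebraMap R _ b) := by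
      simp only [LinearMap.comp_apply, ← map_sum, LinearMap.single_apply, Finset.univ_sum_single]
      refine Prod.ext ?_ ?_
      · simp only [Prod.fst_sub, LinearMap.inl_apply, LinearMap.inr_apply, Prod.fst_add, add_zero]; rfl
      · simp only [Prod.snd_sub, LinearMap.inl_apply, LinearMap.inr_apply, Prod.snd_add, zero_add]; rfl
    rw [e]
    refine add_mem (mem_map_of_linearMap _ _ (by rw [← neg_sub]; exact neg_mem hb))
      (sum_mem fun i _ => mem_map_of_linearMap _ _ ?_)
    have hu : IsUnit (algebraMap A (Localization.Away (algebraMap A R (a i))) (a i)) := by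
      rw [IsScalarTower.algebraMap_apply A R (Localization.Away (algebraMap A R (a i)))]
      exact IsLocalization.Away.algebraMap_isUnit _
    rw [Ideal.eq_top_of_isUnit_mem _ (Ideal.mem_map_of_mem _ (Ideal.subset_span (Set.mem_range_self i))) hu]
    trivial
  have hinj : ∀ r : R, algebraMap R _ r ∈ (Ideal.span (Set.range fun i => algebraMap A R (a i))).map
      (algebraMap R ((C ⧸ J.map (algebraMap A C)) × (∀ i, Localization.Away (algebraMap A R (a i))))) →
      r ∈ Ideal.span (Set.range fun i => algebraMap A R (a i)) := by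
    intro r hr
    rw [hspan, Ideal.map_map, ← IsScalarTower.algebraMap_eq] at hr
    rw [hspan]
    exact h3.2 r (mem_map_of_linearMap _
      (LinearMap.fst A (C ⧸ J.map (algebraMap A C)) (∀ i, Localization.Away (algebraMap A R (a i)))) hr)
  have hu1 : ∀ i, IsUnit (algebraMap A (Localization.Away (algebraMap A (C × ∀ i, B' i) (a i))) (a i)) := fun i => by
    rw [IsScalarTower.algebraMap_apply A (C × ∀ i, B' i) (Localization.Away (algebraMap A (C × ∀ i, B' i) (a i)))]
    exact IsLocalization.Away.algebraMap_isUnit _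
  choose φ hφ using fun i => exists_lifts (a := a) (d := d) (π := π) i
    (IsScalarTower.toAlgHom A (C × ∀ i, B' i) (Localization.Away (algebraMap A (C × ∀ i, B' i) (a i)))) (hu1 i)
  let χ : ∀ i, (C × ∀ i, B' i) →ₐ[A] B' i := fun i => (Pi.evalAlgHom A B' i).comp (AlgHom.snd A C (∀ i, B' i))
  choose g hg using fun i => exists_lift_away (a i) (Localization.Away (algebraMap A (C × ∀ i, B' i) (a i))) (χ i) (hunit i)
  have hgφ : ∀ i b, g i (φ i b) = b := by
    intro i
    have h1 : Lifts a d π i (χ i) ((g i).comp (φ i)) := by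
      rw [show χ i = (g i).comp (IsScalarTower.toAlgHom A (C × ∀ i, B' i)
        (Localization.Away (algebraMap A (C × ∀ i, B' i) (a i)))) from AlgHom.ext fun x => (hg i x).symm]
      exact (hφ i).comp _
    have h2 : Lifts a d π i (χ i) (AlgHom.id A (B' i)) := fun b x r m hr hx => by
      refine (hπk i _).1 ?_
      rw [map_sub, map_mul, map_pow, AlgHom.commutes, AlgHom.id_apply, hr]
      show _ - π i (x.2 i) = 0
      rw [show π i (x.2 i) = (d.q x).2 i from rfl, hx, sub_eq_zero]
      rfl
    exact fun b => AlgHom.congr_fun (Lifts.unique (hunit i) h1 h2) b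
  haveI : ∀ i, Module.Flat A (Localization.Away (algebraMap A (C × ∀ i, B' i) (a i))) := fun i => by
    haveI := hC i
    exact flat_away_prod (a i)
  obtain ⟨hu, hsur, hker, hloc, hbij, hmemL⟩ := gluedAlg_spec a d π φ hφ
    (fun i => Function.LeftInverse.injective (hgφ i))
    (fun i r hr => congrFun (congrArg Prod.snd hr) i) hπs hπk
    (fun i b hb => by rw [← hgφ i b]; exact KMod.map_mem (g i) hb) hsurj hinj
  set B := gluedAlg a φ
  choose r hr hr' using fun c : B => hu c c.2
  let p : B →ₐ[A] R :=
    { toFun := r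
      map_one' := (hr' 1 1 (by dsimp only; rw [map_one, OneMemClass.coe_one, map_one])).symm
      map_mul' := fun x y => (hr' _ (r x * r y) (by dsimp only; rw [map_mul, hr, hr, MulMemClass.coe_mul, map_mul])).symm
      map_zero' := (hr' 0 0 (by dsimp only; rw [map_zero, ZeroMemClass.coe_zero, map_zero])).symm
      map_add' := fun x y => (hr' _ (r x + r y) (by dsimp only; rw [map_add, hr, hr, AddMemClass.coe_add, map_add])).symm
      commutes' := fun c => (hr' _ (algebraMap A R c) (by
        dsimp only; rw [Subalgebra.coe_algebraMap, AlgHom.commutes, ← IsScalarTower.algebraMap_apply])).symm }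
  have hp : ∀ c : B, algebraMap R _ (p c) = d.q c := hr
  have hRS : Function.Injective
      (algebraMap R ((C ⧸ J.map (algebraMap A C)) × (∀ i, Localization.Away (algebraMap A R (a i))))) := by
    intro x y hxy
    obtain ⟨c, hc, e⟩ := hsur x
    exact (hr' ⟨c, hc⟩ x e.symm).trans (hr' ⟨c, hc⟩ y (hxy.symm.trans e.symm)).symm
  have hps : Function.Surjective p := fun x => by
    obtain ⟨c, hc, e⟩ := hsur x
    exact ⟨⟨c, hc⟩, (hr' ⟨c, hc⟩ x e.symm).symm⟩
  have hpk : ∀ b, p b = 0 ↔ b ∈ J.map (algebraMap A B) := by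
    intro b
    constructor
    · intro h
      exact hker b (by rw [← hp, h, map_zero])
    · intro h
      have h' := KMod.map_mem p h
      rwa [show J.map (algebraMap A R) = ⊥ from (Ideal.map_eq_bot_iff_le_ker _).2 fun j hj => by
        rw [RingHom.mem_ker, IsScalarTower.algebraMap_apply A (A ⧸ J) R, Ideal.Quotient.algebraMap_eq,
          Ideal.Quotient.eq_zero_iff_mem.2 hj, map_zero], Submodule.mem_bot] at h'
  haveI : Algebra.Etale B (C × ∀ i, B' i) := by
    refine etale_of_square d p hps (fun b h => (hpk b).1 h) (fun b h => (hpk b).2 h) (fun b => (hp b).symm)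
      Subtype.val_injective hRS _ (fun k => (hmemL k).trans ⟨fun h => ⟨⟨_, h⟩, rfl⟩, ?_⟩) hbij
    rintro ⟨b, e⟩
    rw [← e]; exact b.2
  -- conclusion
  refine ⟨B, inferInstance, inferInstance, (AlgHom.fst A C (∀ i, B' i)).comp B.val, p, ?_, ?_, ?_, hps, hpk, ?_⟩
  · obtain ⟨s, hs⟩ := (inferInstance : Algebra.FiniteType A R).out
    choose w hw using hps
    refine ⟨⟨s.image w, ?_⟩⟩
    rw [Finset.coe_image]
    set S' := Algebra.adjoin A (w '' (s : Set R))
    have h1 : S'.map p = ⊤ := by
      rw [AlgHom.map_adjoin, ← hs, ← Set.image_comp]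
      congr 1
      simp [Function.comp_def, hw]
    have h2 : ∀ b : B, ∃ b' ∈ S', b - b' ∈ J.map (algebraMap A B) := fun b => by
      obtain ⟨b', hb', e⟩ := (h1.symm ▸ Algebra.mem_top : p b ∈ S'.map p)
      exact ⟨b', hb', (hpk _).1 (by rw [map_sub, show p b' = p b from e]; exact sub_self _)⟩
    have h3' : ∀ k ∈ J.map (algebraMap A B), k ∈ S' := by
      intro k hk
      rw [← Submodule.restrictScalars_mem A, ← Ideal.smul_top_eq_map] at hk
      refine Submodule.smul_induction_on hk (fun j hj b _ => ?_) fun x y hx hy => add_mem hx hy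
      obtain ⟨b', hb', hbb⟩ := h2 b
      have : j • b = j • b' := by
        rw [← sub_eq_zero, ← smul_sub, Algebra.smul_def]
        exact KMod.mul_eq_zero_of_mem d (Ideal.mem_map_of_mem _ hj) hbb
      rw [this]
      exact S'.smul_mem hb' j
    refine eq_top_iff.2 fun b _ => ?_
    obtain ⟨b', hb', hbb⟩ := h2 b
    simpa using add_mem hb' (h3' _ hbb)
  · letI : Algebra (C × ∀ i, B' i) C := (RingHom.fst C (∀ i, B' i)).toAlgebra
    have hidem : IsIdempotentElem ((1, 0) : C × ∀ i, B' i) := Prod.ext (one_mul _) (zero_mul _)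
    haveI : IsLocalization.Away ((1, 0) : C × ∀ i, B' i) C := by
      refine IsLocalization.away_of_isIdempotentElem hidem ?_ fun c => ⟨(c, 0), rfl⟩
      ext x
      rw [RingHom.mem_ker, Ideal.mem_span_singleton]
      constructor
      · intro hx
        refine ⟨x, Prod.ext ?_ ?_⟩
        · show x.1 = (1 - 1) * x.1
          rw [sub_self, zero_mul]; exact hx
        · show x.2 = (1 - 0) * x.2
          rw [sub_zero, one_mul]
      · rintro ⟨y, rfl⟩
        show (1 - 1) * y.1 = 0
        rw [sub_self, zero_mul]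
    exact RingHom.Etale.stableUnderComposition (algebraMap B (C × ∀ i, B' i))
      (algebraMap (C × ∀ i, B' i) C) (RingHom.etale_algebraMap.2 inferInstance)
      (RingHom.etale_algebraMap.2 (Algebra.Etale.of_isLocalizationAway ((1, 0) : C × ∀ i, B' i)))
  · intro i
    let θ : B →ₐ[A] B' i := (χ i).comp B.val
    letI : Algebra B (B' i) := θ.toRingHom.toAlgebra
    haveI : IsScalarTower A B (B' i) := .of_algebraMap_eq fun x => (θ.commutes x).symm
    have hθ : ∀ c : B, φ i (θ c) = algebraMap _ (Localization.Away (algebraMap A (C × ∀ i, B' i) (a i))) (c : C × ∀ i, B' i) := fun c => by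
      obtain ⟨b, hb⟩ := (mem_gluedAlg a φ).1 c.2 i
      show φ i (χ i c) = _
      rw [← hg i, ← hb, hgφ]
    haveI : IsLocalization.Away (algebraMap A B (a i)) (B' i) := by
      refine IsLocalization.Away.mk (algebraMap A B (a i)) ?_ ?_ ?_
      · rw [← IsScalarTower.algebraMap_apply]; exact hunit i
      · intro b
        obtain ⟨m, c, hc, e⟩ := hloc i b
        refine ⟨m, ⟨c, hc⟩, ?_⟩
        apply Function.LeftInverse.injective (hgφ i)
        rw [map_mul, map_pow, ← IsScalarTower.algebraMap_apply, AlgHom.commutes, mul_comm, ← e]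
        exact (hθ ⟨c, hc⟩).symm
      · intro x y e
        have e' : φ i (θ x) = φ i (θ y) := congrArg (φ i) e
        rw [hθ, hθ] at e'
        obtain ⟨m, hm⟩ := IsLocalization.Away.exists_of_eq (algebraMap A (C × ∀ i, B' i) (a i))
          (S := Localization.Away (algebraMap A (C × ∀ i, B' i) (a i))) e'
        refine ⟨m, Subtype.ext ?_⟩
        simpa using hm
    exact Algebra.Etale.of_equiv
      ((IsLocalization.algEquiv (Submonoid.powers (algebraMap A B (a i))) (B' i)
        (Localization.Away (algebraMap A B (a i)))).restrictScalars A)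
  · intro b
    have := congrArg Prod.fst (hp b)
    exact this

end Groth.Agent.EtaleGlueLib
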