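import Mathlib
import Groth.Agent.EtaleGlueLib.SqZero

/-!
Lifting along nilpotent ideals.
-/

set_option autoImplicit false
set_option linter.all false
set_option backward.isDefEq.respectTransparency.types false

universe u

namespace Groth.Agent.EtaleGlueLib

open TensorProduct

/-- The lifting property along `J`. -/
def LiftProp {A : Type u} [CommRing A] (J : Ideal A) : Prop :=
  IsNilpotent J → ∀ (n : ℕ) (a : Fin n → A) (C : Type u) [CommRing C] [Algebra A C],
    (∀ i, Algebra.Etale A (Localization.Away (algebraMap A C (a i)))) →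
    ∀ (R : Type u) [CommRing R] [Algebra A R] [Algebra.FiniteType A R] [Algebra (A ⧸ J) R]
      [IsScalarTower A (A ⧸ J) R],
    (∀ i, Algebra.Etale (A ⧸ J) (Localization.Away (algebraMap A R (a i)))) →
    ∀ (τ : R →ₐ[A] C ⧸ J.map (algebraMap A C)), τ.toRingHom.Etale →
    ((∀ c, ∃ b : R, τ b - c ∈ (Ideal.span (Set.range a)).map (algebraMap A (C ⧸ J.map (algebraMap A C)))) ∧
      ∀ b : R, τ b ∈ (Ideal.span (Set.range a)).map (algebraMap A (C ⧸ J.map (algebraMap A C))) →
        b ∈ (Ideal.span (Set.range a)).map (algebraMap A R)) →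
    ∃ (B : Type u) (_ : CommRing B) (_ : Algebra A B) (g : B →ₐ[A] C) (p : B →ₐ[A] R),
      Algebra.FiniteType A B ∧ g.toRingHom.Etale ∧
      (∀ i, Algebra.Etale A (Localization.Away (algebraMap A B (a i)))) ∧ Function.Surjective p ∧
      (∀ b, p b = 0 ↔ b ∈ J.map (algebraMap A B)) ∧
      ∀ b, τ (p b) = Ideal.Quotient.mk (J.map (algebraMap A C)) (g b)

/-- Étale over `A` away from `a` descends to quotients. -/
theorem etale_away_quotient {A : Type u} [CommRing A] (I : Ideal A) (C : Type u) [CommRing C] [Algebra A C]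
    (a : A) (h : Algebra.Etale A (Localization.Away (algebraMap A C a))) :
    Algebra.Etale (A ⧸ I) (Localization.Away (algebraMap (A ⧸ I) (C ⧸ I.map (algebraMap A C)) (Ideal.Quotient.mk I a))) := by
  haveI := h
  let Ca := Localization.Away (algebraMap A C a)
  haveI : Algebra.Etale (A ⧸ I) (Ca ⧸ I.map (algebraMap A Ca)) :=
    Algebra.Etale.of_equiv (Algebra.TensorProduct.quotIdealMapEquivQuotTensor Ca I).symm
  let c' := algebraMap (A ⧸ I) (C ⧸ I.map (algebraMap A C)) (Ideal.Quotient.mk I a)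
  have hc' : c' = algebraMap A (C ⧸ I.map (algebraMap A C)) a :=
    (IsScalarTower.algebraMap_apply A (A ⧸ I) (C ⧸ I.map (algebraMap A C)) a).symm
  let C'a := Localization.Away c'
  have hu : IsUnit (algebraMap A C'a a) := by
    rw [IsScalarTower.algebraMap_apply A (C ⧸ I.map (algebraMap A C)) C'a, ← hc']
    exact IsLocalization.Away.algebraMap_isUnit _
  obtain ⟨F, hF⟩ := exists_lift_away (X := C) a Ca
    ((IsScalarTower.toAlgHom A (C ⧸ I.map (algebraMap A C)) C'a).comp (Ideal.Quotient.mkₐ A _)) hu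
  have hkill : ∀ x ∈ I.map (algebraMap A Ca), F x = 0 := by
    intro x hx
    have h1 := KMod.map_mem F hx
    rwa [show I.map (algebraMap A C'a) = ⊥ from (Ideal.map_eq_bot_iff_le_ker _).2 fun j hj => by
      rw [RingHom.mem_ker, IsScalarTower.algebraMap_apply A (A ⧸ I) C'a, Ideal.Quotient.algebraMap_eq,
        Ideal.Quotient.eq_zero_iff_mem.2 hj, map_zero], Submodule.mem_bot] at h1
  let F' : (Ca ⧸ I.map (algebraMap A Ca)) →ₐ[A] C'a := Ideal.Quotient.liftₐ _ F hkill
  let G₀ : (C ⧸ I.map (algebraMap A C)) →ₐ[A] (Ca ⧸ I.map (algebraMap A Ca)) :=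
    Ideal.Quotient.liftₐ _ ((Ideal.Quotient.mkₐ A _).comp (IsScalarTower.toAlgHom A C Ca)) fun x hx =>
      Ideal.Quotient.eq_zero_iff_mem.2 (KMod.map_mem (IsScalarTower.toAlgHom A C Ca) hx)
  have hG₀ : ∀ y : Submonoid.powers c', IsUnit (G₀ y) := by
    rintro ⟨_, n, rfl⟩
    rw [hc']
    simp only [map_pow, AlgHom.commutes]
    refine IsUnit.pow _ ?_
    rw [IsScalarTower.algebraMap_apply A Ca (Ca ⧸ I.map (algebraMap A Ca)),
      IsScalarTower.algebraMap_apply A C Ca]
    exact (IsLocalization.Away.algebraMap_isUnit _).map _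
  let G : C'a →ₐ[A] (Ca ⧸ I.map (algebraMap A Ca)) := IsLocalization.liftAlgHom (S := C'a) hG₀
  have hG : ∀ x, G (algebraMap _ C'a x) = G₀ x := fun x => IsLocalization.lift_eq _ x
  have e1 : F'.comp G = AlgHom.id A C'a := by
    apply AlgHom.coe_ringHom_injective
    refine IsLocalization.ringHom_ext (Submonoid.powers c') (RingHom.ext fun x => ?_)
    obtain ⟨x, rfl⟩ := Ideal.Quotient.mk_surjective x
    show F' (G (algebraMap _ C'a (Ideal.Quotient.mk _ x))) = algebraMap _ C'a (Ideal.Quotient.mk _ x)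
    rw [hG]
    exact hF x
  have e2 : G.comp F' = AlgHom.id A _ := by
    refine Ideal.Quotient.algHom_ext _ (algHom_ext_away (X := C) a Ca fun x => ?_)
    show G (F (algebraMap C Ca x)) = Ideal.Quotient.mk _ (algebraMap C Ca x)
    rw [hF]
    exact hG _
  exact Algebra.Etale.of_equiv
    (AlgEquiv.extendScalarsOfSurjective Ideal.Quotient.mk_surjective (AlgEquiv.ofAlgHom F' G e1 e2))

/-- An étale map surjective modulo `(a)` and a nilpotent ideal is injective modulo `(a)`. -/
theorem inj_mod {A B C : Type u} [CommRing A] [CommRing B] [CommRing C] [Algebra A B] [Algebra A C]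
    (Ia J : Ideal A) (hJ : IsNilpotent J) (g : B →ₐ[A] C) (hg : g.toRingHom.Etale)
    (hs : ∀ c, ∃ b, g b - c ∈ Ia.map (algebraMap A C))
    (hk : ∀ b, g b ∈ Ia.map (algebraMap A C) → b ∈ Ia.map (algebraMap A B) ⊔ J.map (algebraMap A B))
    (b : B) (hb : g b ∈ Ia.map (algebraMap A C)) : b ∈ Ia.map (algebraMap A B) := by
  letI : Algebra B C := g.toRingHom.toAlgebra
  haveI : IsScalarTower A B C := .of_algebraMap_eq fun x => (g.commutes x).symm
  haveI : Algebra.Etale B C := hg
  let D := B ⧸ Ia.map (algebraMap A B)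
  let E := C ⧸ Ia.map (algebraMap A C)
  let π : D →ₐ[B] E := Ideal.Quotient.liftₐ _ ((Ideal.Quotient.mkₐ B _).comp (Algebra.ofId B C)) fun x hx =>
    Ideal.Quotient.eq_zero_iff_mem.2 (KMod.map_mem g hx)
  have hπ : Function.Surjective π := fun e => by
    obtain ⟨c, rfl⟩ := Ideal.Quotient.mk_surjective e
    obtain ⟨b, hb⟩ := hs c
    exact ⟨Ideal.Quotient.mk _ b, Ideal.Quotient.eq.2 hb⟩
  have hπk : IsNilpotent (RingHom.ker (π : D →+* E)) := by
    obtain ⟨m, hm⟩ := hJ
    have hle : RingHom.ker (π : D →+* E) ≤ J.map (algebraMap A D) := fun x hx => by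
      obtain ⟨y, rfl⟩ := Ideal.Quotient.mk_surjective x
      obtain ⟨u, hu, v, hv, e⟩ := Submodule.mem_sup.1 (hk y (Ideal.Quotient.eq_zero_iff_mem.1 hx))
      rw [← e, map_add, Ideal.Quotient.eq_zero_iff_mem.2 hu, zero_add]
      exact KMod.map_mem (Ideal.Quotient.mkₐ A _) hv
    refine ⟨m, le_bot_iff.1 ((Ideal.pow_right_mono hle m).trans_eq ?_)⟩
    rw [← Ideal.map_pow, hm, Ideal.zero_eq_bot, Ideal.map_bot]
  let ρ := Algebra.FormallySmooth.liftOfSurjective ((Ideal.Quotient.mkₐ B (Ia.map (algebraMap A C)))) π hπ hπk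
  have h1 : ρ (g b) = Ideal.Quotient.mk _ b := ρ.commutes b
  have h2 : ρ (g b) ∈ Ia.map (algebraMap A D) := KMod.map_mem (ρ.restrictScalars A) hb
  rw [show Ia.map (algebraMap A D) = ⊥ from (Ideal.map_eq_bot_iff_le_ker _).2 fun j hj => by
    rw [RingHom.mem_ker, IsScalarTower.algebraMap_apply A B D, Ideal.Quotient.algebraMap_eq,
      Ideal.Quotient.eq_zero_iff_mem.2 (Ideal.mem_map_of_mem _ hj)], Submodule.mem_bot, h1] at h2
  exact Ideal.Quotient.eq_zero_iff_mem.1 h2

/-- Surjectivity modulo `(a)` and a nilpotent ideal. -/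
theorem surj_mod {A B C : Type u} [CommRing A] [CommRing B] [CommRing C] [Algebra A B] [Algebra A C]
    (Ia J : Ideal A) (hJ : IsNilpotent J) (g : B →ₐ[A] C)
    (hs : ∀ c, ∃ b, g b - c ∈ Ia.map (algebraMap A C) ⊔ J.map (algebraMap A C)) (c : C) :
    ∃ b, g b - c ∈ Ia.map (algebraMap A C) := by
  obtain ⟨m, hm⟩ := hJ
  suffices H : ∀ k, ∀ c, ∃ b, g b - c ∈ Ia.map (algebraMap A C) ⊔ (J ^ k).map (algebraMap A C) by
    obtain ⟨b, hb⟩ := H m c
    rw [hm, Ideal.zero_eq_bot, Ideal.map_bot, sup_bot_eq] at hb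
    exact ⟨b, hb⟩
  intro k
  induction k with
  | zero => exact fun c => ⟨0, by rw [pow_zero, Ideal.one_eq_top, Ideal.map_top, sup_top_eq]; trivial⟩
  | succ k ih =>
    intro c
    obtain ⟨b, hb⟩ := hs c
    obtain ⟨i, hi, y, hy, e⟩ := Submodule.mem_sup.1 hb
    suffices H : ∀ y ∈ J.map (algebraMap A C), ∃ b, g b - y ∈
        Ia.map (algebraMap A C) ⊔ (J ^ (k + 1)).map (algebraMap A C) by
      obtain ⟨b', hb'⟩ := H y hy
      refine ⟨b - b', ?_⟩
      rw [map_sub, show g b - g b' - c = i - (g b' - y) by linear_combination -e]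
      exact sub_mem (Ideal.mem_sup_left hi) hb'
    intro y hy
    rw [← Submodule.restrictScalars_mem A, ← Ideal.smul_top_eq_map] at hy
    refine Submodule.smul_induction_on hy (fun j hj z _ => ?_) fun y y' h h' => ?_
    · obtain ⟨b', hb'⟩ := ih z
      refine ⟨j • b', ?_⟩
      rw [map_smul, ← smul_sub, Algebra.smul_def]
      obtain ⟨u, hu, v, hv, e'⟩ := Submodule.mem_sup.1 hb'
      rw [← e', mul_add]
      refine add_mem (Ideal.mem_sup_left (Ideal.mul_mem_left _ _ hu)) (Ideal.mem_sup_right ?_)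
      rw [pow_succ', Ideal.map_mul]
      exact Ideal.mul_mem_mul (Ideal.mem_map_of_mem _ hj) hv
    · obtain ⟨b₁, h₁⟩ := h
      obtain ⟨b₂, h₂⟩ := h'
      refine ⟨b₁ + b₂, ?_⟩
      rw [map_add, add_sub_add_comm]
      exact add_mem h₁ h₂

set_option maxHeartbeats 800000 in
theorem liftProp_of_isNilpotent {A : Type u} [CommRing A] (J : Ideal A) (hJ : IsNilpotent J) :
    LiftProp J := by
  refine Ideal.IsNilpotent.induction_on (S := A) J hJ (P := fun {S} _ K => LiftProp K) ?_ ?_
  · intro A _ J hJ _ n a C _ _ hC R _ _ _ _ _ hR τ hτ h3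
    exact exists_lift_sq_zero J hJ a C hC R hR τ hτ h3
  intro A _ I J hIJ hI hJ' hJn n a C _ _ hC R _ _ _ _ _ hR τ hτ h3
  let A' := A ⧸ I
  let J' := J.map (Ideal.Quotient.mk I)
  have hJ'n : IsNilpotent J' := by
    obtain ⟨m, hm⟩ := hJn
    exact ⟨m, by rw [← Ideal.map_pow, hm]; exact Ideal.map_bot⟩
  have hIn : IsNilpotent I := by
    obtain ⟨m, hm⟩ := hJn
    exact ⟨m, le_bot_iff.1 ((Ideal.pow_right_mono hIJ m).trans_eq hm)⟩
  have hkR : ∀ j ∈ J, algebraMap A R j = 0 := fun j hj => by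
    rw [IsScalarTower.algebraMap_apply A (A ⧸ J) R, Ideal.Quotient.algebraMap_eq,
      Ideal.Quotient.eq_zero_iff_mem.2 hj, map_zero]
  letI : Algebra A' R := (Ideal.Quotient.lift I (algebraMap A R) fun j hj => hkR j (hIJ hj)).toAlgebra
  haveI : IsScalarTower A A' R := .of_algebraMap_eq fun x => rfl
  haveI : Algebra.FiniteType A' R := Algebra.FiniteType.of_restrictScalars_finiteType A A' R
  letI : Algebra (A' ⧸ J') R := (Ideal.Quotient.lift J' (algebraMap A' R) fun x hx => by
    obtain ⟨j, hj, rfl⟩ := (Ideal.mem_map_iff_of_surjective _ Ideal.Quotient.mk_surjective).1 hx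
    exact hkR j hj).toAlgebra
  haveI : IsScalarTower A' (A' ⧸ J') R := ⟨fun x y z => by
    obtain ⟨y, rfl⟩ := Ideal.Quotient.mk_surjective y
    show algebraMap A' R (x * y) * z = algebraMap A' R x * (algebraMap A' R y * z)
    rw [map_mul, mul_assoc]⟩
  let C' := C ⧸ I.map (algebraMap A C)
  let C'' := C' ⧸ J'.map (algebraMap A' C')
  let ψ : C →ₐ[A] C'' := (Ideal.Quotient.mkₐ A _).comp (Ideal.Quotient.mkₐ A _)
  have hmapC : J'.map (algebraMap A' C') = J.map (algebraMap A C') := by
    show (J.map (algebraMap A A')).map (algebraMap A' C') = _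
    rw [Ideal.map_map, ← IsScalarTower.algebraMap_eq]
  have hψ : ∀ x, ψ x = 0 ↔ x ∈ J.map (algebraMap A C) := fun x => by
    show Ideal.Quotient.mk _ (Ideal.Quotient.mk _ x) = 0 ↔ _
    rw [Ideal.Quotient.eq_zero_iff_mem, hmapC, IsScalarTower.algebraMap_eq A C C', ← Ideal.map_map,
      Ideal.Quotient.algebraMap_eq, ← Ideal.mem_comap, Ideal.comap_map_of_surjective _ Ideal.Quotient.mk_surjective,
      ← RingHom.ker_eq_comap_bot, Ideal.mk_ker, sup_eq_left.2 (Ideal.map_mono hIJ)]
  let ε : (C ⧸ J.map (algebraMap A C)) →ₐ[A] C'' := Ideal.Quotient.liftₐ _ ψ fun x hx => (hψ x).2 hx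
  have hεb : Function.Bijective ε := by
    refine ⟨(injective_iff_map_eq_zero _).2 fun x hx => ?_, fun y => ?_⟩
    · obtain ⟨x, rfl⟩ := Ideal.Quotient.mk_surjective x
      exact Ideal.Quotient.eq_zero_iff_mem.2 ((hψ x).1 hx)
    · obtain ⟨y, rfl⟩ := Ideal.Quotient.mk_surjective y
      obtain ⟨y, rfl⟩ := Ideal.Quotient.mk_surjective y
      exact ⟨Ideal.Quotient.mk _ y, rfl⟩
  let τ' : R →ₐ[A'] C'' := (ε.comp τ).extendScalarsOfSurjective Ideal.Quotient.mk_surjective
  let a' : Fin n → A' := fun i => Ideal.Quotient.mk I (a i)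
  have hspan : ∀ (T : Type u) [CommRing T] [Algebra A T] [Algebra A' T] [IsScalarTower A A' T],
      (Ideal.span (Set.range a')).map (algebraMap A' T) = (Ideal.span (Set.range a)).map (algebraMap A T) := by
    intro T _ _ _ _
    rw [Ideal.map_span, Ideal.map_span, ← Set.range_comp, ← Set.range_comp]
    congr 2
    funext i
    exact (IsScalarTower.algebraMap_apply A A' T (a i)).symm
  have hR' : ∀ i, Algebra.Etale (A' ⧸ J') (Localization.Away (algebraMap A' R (a' i))) := fun i => by
    haveI : Algebra.Etale (A ⧸ J) (Localization.Away (algebraMap A R (a i))) := hR i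
    let e : (A' ⧸ J') ≃+* A ⧸ J :=
      (DoubleQuot.quotQuotEquivQuotSup I J).trans (Ideal.quotEquivOfEq (sup_eq_right.2 hIJ))
    rw [← RingHom.etale_algebraMap]
    have : algebraMap (A' ⧸ J') (Localization.Away (algebraMap A' R (a' i))) =
        (algebraMap (A ⧸ J) (Localization.Away (algebraMap A R (a i)))).comp e.toRingHom := by
      refine Ideal.Quotient.ringHom_ext (Ideal.Quotient.ringHom_ext (RingHom.ext fun x => ?_))
      show algebraMap (A' ⧸ J') (Localization.Away (algebraMap A' R (a' i))) (Ideal.Quotient.mk J' (Ideal.Quotient.mk I x)) =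
        algebraMap (A ⧸ J) (Localization.Away (algebraMap A R (a i))) (Ideal.Quotient.mk J x)
      rw [IsScalarTower.algebraMap_apply (A' ⧸ J') R, IsScalarTower.algebraMap_apply (A ⧸ J) R]
      exact congrArg (algebraMap R (Localization.Away (algebraMap A R (a i))))
        (IsScalarTower.algebraMap_apply A (A ⧸ J) R x)
    rw [this]
    exact RingHom.Etale.stableUnderComposition _ _ (RingHom.Etale.of_bijective e.bijective)
      (RingHom.etale_algebraMap.2 (hR i))
  have h3' : (∀ c, ∃ b : R, τ' b - c ∈ (Ideal.span (Set.range a')).map (algebraMap A' C'')) ∧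
      ∀ b : R, τ' b ∈ (Ideal.span (Set.range a')).map (algebraMap A' C'') →
        b ∈ (Ideal.span (Set.range a')).map (algebraMap A' R) := by
    rw [hspan C'', hspan R]
    refine ⟨fun c => ?_, fun b hb => h3.2 b ?_⟩
    · obtain ⟨c, rfl⟩ := hεb.2 c
      obtain ⟨b, hb⟩ := h3.1 c
      refine ⟨b, ?_⟩
      have := KMod.map_mem ε hb
      rw [map_sub] at this
      exact this
    · have h1 := KMod.map_mem (AlgEquiv.ofBijective ε hεb).symm.toAlgHom hb
      rwa [show (AlgEquiv.ofBijective ε hεb).symm.toAlgHom (τ' b) = τ b from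
        (AlgEquiv.ofBijective ε hεb).symm_apply_apply (τ b)] at h1
  obtain ⟨B₁, _, _, g₁, p₁, hft₁, hg₁, hB₁, hp₁, hk₁, hc₁⟩ := hJ' hJ'n n a' C'
    (fun i => etale_away_quotient I C (a i) (hC i)) R hR' τ'
    (RingHom.Etale.stableUnderComposition τ.toRingHom ε.toRingHom hτ (RingHom.Etale.of_bijective hεb)) h3'
  -- lift `B₁` along `I`
  letI : Algebra A B₁ := ((algebraMap A' B₁).comp (algebraMap A A')).toAlgebra
  haveI : IsScalarTower A A' B₁ := .of_algebraMap_eq fun x => rfl
  haveI : Algebra.FiniteType A B₁ := Algebra.FiniteType.trans inferInstance hft₁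
  let τ₁ : B₁ →ₐ[A] C' := g₁.restrictScalars A
  have hJB : J'.map (algebraMap A' B₁) = J.map (algebraMap A B₁) := by
    show (J.map (algebraMap A A')).map (algebraMap A' B₁) = _
    rw [Ideal.map_map, ← IsScalarTower.algebraMap_eq]
  have hsurj1 : ∀ c, ∃ b, τ₁ b - c ∈ (Ideal.span (Set.range a)).map (algebraMap A C') := by
    refine surj_mod _ J hJn τ₁ fun c => ?_
    obtain ⟨r, hr⟩ := h3'.1 (Ideal.Quotient.mk _ c)
    obtain ⟨b, rfl⟩ := hp₁ r
    refine ⟨b, ?_⟩
    rw [hspan C'', hc₁, ← map_sub, IsScalarTower.algebraMap_eq A C' C'', ← Ideal.map_map,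
      Ideal.Quotient.algebraMap_eq, ← Ideal.mem_comap, Ideal.comap_map_of_surjective _ Ideal.Quotient.mk_surjective,
      ← RingHom.ker_eq_comap_bot, Ideal.mk_ker, hmapC] at hr
    exact hr
  have hinj1 : ∀ b, τ₁ b ∈ (Ideal.span (Set.range a)).map (algebraMap A C') →
      b ∈ (Ideal.span (Set.range a)).map (algebraMap A B₁) := by
    refine inj_mod _ J hJn τ₁ hg₁ hsurj1 fun b hb => ?_
    have h1 : p₁ b ∈ (Ideal.span (Set.range a')).map (algebraMap A' R) := by
      refine h3'.2 _ ?_
      rw [hc₁, hspan C'']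
      exact KMod.map_mem (Ideal.Quotient.mkₐ A _) hb
    have h2 : p₁ b ∈ ((Ideal.span (Set.range a)).map (algebraMap A B₁)).map (p₁ : B₁ →+* R) := by
      rw [hspan R] at h1
      rw [Ideal.map_map]
      convert h1 using 2
      ext x
      exact (p₁.restrictScalars A).commutes x
    obtain ⟨y, hy, e⟩ := (Ideal.mem_map_iff_of_surjective _ hp₁).1 h2
    rw [← add_sub_cancel y b]
    refine add_mem (Ideal.mem_sup_left hy) (Ideal.mem_sup_right ?_)
    rw [← hJB]
    exact (hk₁ _).1 (by rw [map_sub, sub_eq_zero]; exact e.symm)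
  obtain ⟨B, _, _, g, p, hft, hg, hB, hp, hk, hc⟩ := hI hIn n a C hC B₁ (fun i => hB₁ i) τ₁ hg₁ ⟨hsurj1, hinj1⟩
  let P : B →ₐ[A] R := (p₁.restrictScalars A).comp p
  refine ⟨B, inferInstance, inferInstance, g, P, hft, hg, hB, hp₁.comp hp, fun b => ⟨fun hb => ?_, fun hb => ?_⟩,
    fun b => hεb.1 ?_⟩
  · have h1 : p b ∈ (J.map (algebraMap A B)).map (p : B →+* B₁) := by
      rw [Ideal.map_map, AlgHom.comp_algebraMap, ← hJB]
      exact (hk₁ _).1 hb
    obtain ⟨y, hy, e⟩ := (Ideal.mem_map_iff_of_surjective _ hp).1 h1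
    rw [← add_sub_cancel y b]
    refine add_mem hy (Ideal.map_mono hIJ ((hk _).1 ?_))
    rw [map_sub, sub_eq_zero]
    exact e.symm
  · have h1 := KMod.map_mem P hb
    rwa [show J.map (algebraMap A R) = ⊥ from (Ideal.map_eq_bot_iff_le_ker _).2 fun j hj => hkR j hj,
      Submodule.mem_bot] at h1
  · show τ' (p₁ (p b)) = Ideal.Quotient.mk _ (Ideal.Quotient.mk _ (g b))
    rw [hc₁]
    exact congrArg _ (hc b)

/-- Étale away from `(a)` means étale away from every element of `(a)`. -/
theorem etale_away_of_mem {A B : Type u} [CommRing A] [CommRing B] [Algebra A B] {n : ℕ} (a : Fin n → A)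
    (h : ∀ i, Algebra.Etale A (Localization.Away (algebraMap A B (a i)))) {x : A}
    (hx : x ∈ Ideal.span (Set.range a)) : Algebra.Etale A (Localization.Away (algebraMap A B x)) := by
  let Bx := Localization.Away (algebraMap A B x)
  rw [← RingHom.etale_algebraMap]
  refine RingHom.Etale.ofLocalizationSpanTarget (algebraMap A Bx) (Set.range fun i => algebraMap A Bx (a i)) ?_ ?_
  · have h1 := Ideal.mem_map_of_mem (algebraMap A Bx) hx
    rw [Ideal.map_span, ← Set.range_comp] at h1
    refine Ideal.eq_top_of_isUnit_mem _ h1 ?_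
    rw [IsScalarTower.algebraMap_apply A B Bx]
    exact IsLocalization.Away.algebraMap_isUnit _
  rintro ⟨_, i, rfl⟩
  let Bi := Localization.Away (algebraMap A B (a i))
  haveI := h i
  let T := Localization.Away (algebraMap A Bx (a i))
  let U := Localization.Away (algebraMap A Bi x)
  have hux : IsUnit (algebraMap A T x) := by
    have h1 : IsUnit (algebraMap A Bx x) := by
      rw [IsScalarTower.algebraMap_apply A B Bx]
      exact IsLocalization.Away.algebraMap_isUnit _
    rw [IsScalarTower.algebraMap_apply A Bx T]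
    exact h1.map _
  have hua : IsUnit (algebraMap A T (a i)) := by
    rw [IsScalarTower.algebraMap_apply A Bx T]
    exact IsLocalization.Away.algebraMap_isUnit _
  have hux' : IsUnit (algebraMap A U x) := by
    rw [IsScalarTower.algebraMap_apply A Bi U]
    exact IsLocalization.Away.algebraMap_isUnit _
  have hua' : IsUnit (algebraMap A U (a i)) := by
    have h1 : IsUnit (algebraMap A Bi (a i)) := by
      rw [IsScalarTower.algebraMap_apply A B Bi]
      exact IsLocalization.Away.algebraMap_isUnit _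
    rw [IsScalarTower.algebraMap_apply A Bi U]
    exact h1.map _
  let jT : B →ₐ[A] T := (IsScalarTower.toAlgHom A Bx T).comp (IsScalarTower.toAlgHom A B Bx)
  let jU : B →ₐ[A] U := (IsScalarTower.toAlgHom A Bi U).comp (IsScalarTower.toAlgHom A B Bi)
  obtain ⟨F₁, hF₁⟩ := exists_lift_away (a i) Bi jT hua
  obtain ⟨F, hF⟩ := exists_lift_away x U F₁ hux
  obtain ⟨G₁, hG₁⟩ := exists_lift_away x Bx jU hux'
  obtain ⟨G, hG⟩ := exists_lift_away (a i) T G₁ hua'
  let e : U ≃ₐ[A] T := AlgEquiv.ofAlgHom F G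
    (algHom_ext_away (a i) T fun y => by
      show F (G (algebraMap Bx T y)) = algebraMap Bx T y
      rw [hG]
      exact AlgHom.congr_fun (algHom_ext_away x Bx (g := F.comp G₁) (g' := IsScalarTower.toAlgHom A Bx T) fun b => by
        show F (G₁ (algebraMap B Bx b)) = algebraMap Bx T (algebraMap B Bx b)
        rw [hG₁]
        show F (algebraMap Bi U (algebraMap B Bi b)) = _
        rw [hF, hF₁]
        rfl) y)
    (algHom_ext_away x U fun y => by
      show G (F (algebraMap Bi U y)) = algebraMap Bi U y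
      rw [hF]
      exact AlgHom.congr_fun (algHom_ext_away (a i) Bi (g := G.comp F₁) (g' := IsScalarTower.toAlgHom A Bi U) fun b => by
        show G (F₁ (algebraMap B Bi b)) = algebraMap Bi U (algebraMap B Bi b)
        rw [hF₁]
        show G (algebraMap Bx T (algebraMap B Bx b)) = _
        rw [hG, hG₁]
        rfl) y)
  haveI : Algebra.Etale A T := Algebra.Etale.of_equiv e
  show ((algebraMap Bx T).comp (algebraMap A Bx)).Etale
  rw [← IsScalarTower.algebraMap_eq]
  exact RingHom.etale_algebraMap.2 inferInstance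

end Groth.Agent.EtaleGlueLib
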